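import Cfsg.Agent.KFacts.M24Two.CentZ

/-!
# The centraliser of the noncentral involution `w = X15 X24` (class `2B`) of `M24` (helper128)

`C(w) = 2⁶:S5`: `Q = ⟨X14, X15, X24, X25, X34, X35⟩ = {qe 0, …, qe 63}` is normal in `C(w)`, the 120 elements of
`TP = T0 ++ T1` represent the cosets (`cover`); `T0` those of `L = C(w) ∩ C(v)`, `v = X14 X24 X25`, which is perfect
(`L_perfect`); `d = X12 X45 y2 ∈ C(w)` satisfies `[d, v] = w` (`d_v`).
`normal_two`: a normal subgroup of `C(w)` containing `w`, none of whose involutions has a fixed point, lies in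
`⟨w, v⟩`. `odd_w`: `O(C(w)) = 1`.
-/

set_option autoImplicit false
set_option Elab.async false
set_option maxRecDepth 100000

namespace Cfsg.Agent.KFacts.M24Two.CentW

open Cfsg Cfsg.Agent.SporadicA.GolayBase Cfsg.Agent.SporadicA.GolayPerm
open Cfsg.Agent.SporadicStructure.M24El Cfsg.Agent.KFacts.M24Two.Tool
open Cfsg.Agent.KFacts.M24Two.Chain Cfsg.Agent.KFacts.M24Pair.Letters
open scoped Pointwise commutatorElement

/-! ### Data -/

/-- the root letters `X14 X15 X24 X25 X34 X35` -/
def gQ : List ℕ :=
  [137946475452688126480473909395947682, 592353204691533442233142632973374465,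
   154045676456488069852986216677081250, 610956390715471154959104471240053761,
   984806797292990878012365697499365538, 984812760466102605412385163952886785]

/-- `X13`, `X23`, `X32 X21 X32` -/
def gB : List ℕ :=
  [106832945418929216786996674173099555, 112494624569381642494933542000156195,
   486349973926430203268823274221996064]

/-- `X12 X45 y2` -/
def dP : ℕ := 891427160085875779551823993730508388

/-- `X15 X24` -/
def wP : ℕ := 716963259472417517261281706958586949

/-- `X14 X24 X25` -/
def vP : ℕ := 594857189711822175128405388796924929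

/-- the elements of `Q` -/
def QP : List ℕ :=
  [984818244535754528103549039458486304, 137946475452688126480473909395947682,
   592353204691533442233142632973374465, 734329880810077958673094028830377029,
   154045676456488069852986216677081250, 968708902336673183175954409307867168,
   716963259472417517261281706958586949, 609709684833912482089872631975678977,
   610956390715471154959104471240053761, 719467244492555286614731237944132677,
   966182099583441531322624363496310816, 152776152841835514483873862586695842,
   735576586691787595084139092932756549, 594857189711822175128405388796924929,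
   135419672699607438168957088422396066, 983548720921252936276249910206105632,
   984806797292990878012365697499365538, 137935104962206912083219455161370656,
   592341603944204920754945941074117701, 734318663824161615662852924535936001,
   154034229214026365292173381192091680, 968697531846493914309070461010542754,
   716951658725390941313455521399247873, 609698467848298084610002033752704069,
   610967761205952369356358925541737541, 719478691735318936705914579836146689,
   966193316569357874332865467723645090, 152787753589164035962070554553059360,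
   735587957181966863951023041162974209, 594868636954283879689218224349021253,
   135430889685221835648827686712477728, 983560321668279512224076095698337954,
   984812760466102605412385163952886785, 137940837878471332402296683950212165,
   592348547565827762175298702812940320, 734325377188937150002263448610078882,
   154050333581815603186534157902382149, 968713405957435845122489000458818561,
   716968743541691293228149593394839714, 609715322407751129443753868486281248,
   610961047841327798558761626439813152, 719471748113847058827375043069542562,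
   966187583653244417555601463638594561, 152781790416203272103864312803329093,
   735571102622362855575457981725606050, 594851552137832564232710927649638432,
   135415015574128941293595922291983429, 983544217300339310787902094015828993,
   984801159719152230658484461055870021, 137929620892933136116351568658011137,
   592337100323442258808411349856059554, 734314006698834082329304983377741856,
   154038732835167173963003961345283073, 968702188972199594366914391238083653,
   716957296299607735391632746912090144, 609703951917950007301165909191196834,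
   610972264826865994844706741664907426, 719483348860797433581275746033666080,
   966198954143347485228559928938038341, 152793237658588775470751665693103105,
   735582319607599106331032591013447712, 594863152884480993456241124139630754,
   135426386063930063436183881519961089, 983555664542422868624418940565685317]

/-- words for `QP` in `gQ` -/
def QW : List (List ℕ) :=
  [[], [0], [1], [0,1], [2], [0,2], [1,2], [0,1,2], [3], [0,3], [1,3], [0,1,3], [2,3], [0,2,3], [1,2,3],
   [0,1,2,3], [4], [0,4], [1,4], [0,1,4], [2,4], [0,2,4], [1,2,4], [0,1,2,4], [3,4], [0,3,4], [1,3,4],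
   [0,1,3,4], [2,3,4], [0,2,3,4], [1,2,3,4], [0,1,2,3,4], [5], [0,5], [1,5], [0,1,5], [2,5], [0,2,5],
   [1,2,5], [0,1,2,5], [3,5], [0,3,5], [1,3,5], [0,1,3,5], [2,3,5], [0,2,3,5], [1,2,3,5], [0,1,2,3,5], [4,5],
   [0,4,5], [1,4,5], [0,1,4,5], [2,4,5], [0,2,4,5], [1,2,4,5], [0,1,2,4,5], [3,4,5], [0,3,4,5], [1,3,4,5],
   [0,1,3,4,5], [2,3,4,5], [0,2,3,4,5], [1,2,3,4,5], [0,1,2,3,4,5]]

/-- representatives of the cosets of `Q` in `C(w) ∩ C(v)` -/
def T0 : List ℕ :=
  [984818244535754528103549039458486304, 106832945418929216786996674173099555,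
   112494624569381642494933542000156195, 486349973926430203268823274221996064,
   979121071158219704299181131031480352, 99199153488789759175066120085318896,
   112491923391847693621394948529073392, 480659490378039340226961277568179747,
   569415003152537194668003952442105379, 473031851047485360516668390220761120,
   971493969057224207449756488716889328, 976604784702712834393246353301026284,
   979123792162288287969805221373258992, 984797484283184239134072348338140652,
   563747337322203996186267245198313504, 403261883881603939823597511674244336,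
   473037273229087893060831074033622563, 561219768313026063917831324116082211,
   104310672283541574107262057025910252, 461756098936618678565036432686589554,
   106817607349171942625328534007068140, 486339900818530570365584544713156210,
   389975637959766092928036753270966304, 896054078583667611079900497499073776,
   403272655201210239501885792667121132, 561225190495839078725639875070396448,
   378680617328848075526219833276968176, 87929925359143164774202232591623794,
   457021775523364176995446985794803030, 540098173994116442912820174340367986,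
   99191801385412758101081799027336818, 480660188590993111817250504602834262,
   569433760439280201538991601575405170, 888435498492162962666076446339587619,
   395068420527527183476277608304959011, 896043307263456710141224378222458348,
   378683338333370707355474241727825952, 872395383128347521464787990051761392,
   373952280595437724178836417392752108, 955489714365059923490597081974953302,
   955471655290591562103453014200264306, 544833200557313258577561339264652630,
   971491966091887596061491573248087382, 976608203919546734257938151519659634,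
   563755323288772724670172583464162646, 893529556138164517157478190514112544,
   544831197592204072485295145465818352, 888416741205269838497659978892650098,
   872392681950057138486233847548304931, 373936942525528617172540566478085667,
   877159214088235669648214608252188140, 87911866285353929493503810492978518,
   457009001238044089964504672719353324, 395067722315102420695005208632710486,
   104297897998598663040708860564231510, 461759518153754528571784759967495660,
   389967651992515890989502375226070358, 877138453836724030097756073524660256,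
   540090821891645993241280220628397296, 893539629244703550499642234567861874]

/-- words for `T0` in `gB` -/
def BW : List (List ℕ) :=
  [[], [0], [1], [2], [1,0], [2,0], [2,1], [0,2], [1,2], [2,1,0], [0,2,0], [1,2,0], [0,2,1], [1,2,1],
   [1,0,2], [2,1,2], [0,2,1,0], [1,2,1,0], [1,0,2,0], [2,1,2,0], [1,0,2,1], [2,1,2,1], [2,1,0,2], [0,2,1,2],
   [1,2,1,2], [1,0,2,1,0], [2,1,2,1,0], [2,1,0,2,0], [0,2,1,2,0], [1,2,1,2,0], [2,1,0,2,1], [0,2,1,2,1],
   [1,2,1,2,1], [0,2,1,0,2], [1,2,1,0,2], [1,0,2,1,2], [2,1,0,2,1,0], [0,2,1,2,1,0], [1,2,1,2,1,0],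
   [0,2,1,0,2,0], [1,2,1,0,2,0], [1,0,2,1,2,0], [0,2,1,0,2,1], [1,2,1,0,2,1], [1,0,2,1,2,1], [1,0,2,1,0,2],
   [2,1,2,1,0,2], [2,1,0,2,1,2], [0,2,1,0,2,1,0], [1,2,1,0,2,1,0], [1,0,2,1,2,1,0], [1,0,2,1,0,2,0],
   [2,1,2,1,0,2,0], [2,1,0,2,1,2,0], [1,0,2,1,0,2,1], [2,1,2,1,0,2,1], [2,1,0,2,1,2,1], [2,1,0,2,1,0,2],
   [0,2,1,2,1,0,2], [1,2,1,0,2,1,2]]

/-- representatives of the other cosets of `Q` in `C(w)` -/
def T1 : List ℕ :=
  [891427160085875779551823993730508388, 380432777846401976239271674851251528,
   878898346537207678316800799336048228, 898736433444752123609223268854412774,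
   392971732634326404316558488613573960, 546593494353156278998045158059234632,
   878881478359129787087067180192511462, 400281650946966421215745851610248678,
   880645169044450053234575261239094516, 566410419945100345690608749198398792,
   559133094094844379917120059694327396, 476051573023059740839457055308404040,
   392951706459988399896122701056718310, 891412504112995008667839733157866740,
   382189096614353911572077565616205044, 877878766723997572858535429315780142,
   566407261948840232499906580785079908, 465238602536684976032621116337575240,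
   463522114495844873177201670407988836, 981806289365820141470082246092739912,
   380421279869102192439543937015885044, 898714327550603594119333701375778350,
   545584188226243954928551680360537646, 385097343342447749960066598596380709,
   877884136925418202290137204957382693, 465241760532265963116877639074850404,
   960940304923449414326529377048155464, 961982769282095964936556928131610086,
   109500064938629629461182669155116644, 91413577766469370819753307575342408,
   546591414632968559517458204457131566, 400257280867135916236701967294007333,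
   880626221146525032830538110831167525, 551258837274790273692580545264027685,
   462508083147269182202042517515012133, 385102713542657883292964464296615470,
   960960331097410224335831990924686822, 94317309722328296845771673002223204,
   88638534614493047098313154878428488, 102206003382120320589912736094402022,
   102211425564630383366877236953263348, 963719099043717568733501166480467556,
   559125592193393697863122266517342245, 476044123102661888025972236006066213,
   382161568537695319305223497278709294, 468181442262294565598347194098409006,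
   963726600946528806537556509579479077, 551239889376411207435756083880340724,
   94334177900708119770817764141479398, 88650032592020214688865485984017652,
   966619679193659099996223917145925220, 961977347100190480361550194223295732,
   109512937041651000598135877954362926, 462483713066380053168253555272463846,
   463509242392973561691602101589401134, 981813739286899423927178969641060389,
   545556660150341812907614210988649716, 966634335167446380777478416664833268,
   91415657486128023845248255482060334, 468159336368297908152416458634835430]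

/-- the orbits of `Q` -/
def tau (i : ℕ) : ℕ := ([0, 0, 0, 1, 2, 0, 3, 4, 5, 2, 5, 4, 3, 3, 1, 3, 4, 1, 2, 2, 4, 5, 5, 1] : List ℕ).getD i 0

/-- orbit representatives -/
def bse (k : ℕ) : ℕ := ([0, 3, 4, 6, 7, 8] : List ℕ).getD k 0

/-- `t_j g_i t_j⁻¹` is the element number `cN j i` of `Q` -/
def cN : List (List ℕ) :=
  [[1,2,4,8,16,32], [1,2,4,8,17,34], [1,2,4,8,20,40], [21,42,44,52,56,28], [1,2,4,8,21,42],
   [21,42,44,52,45,54], [21,42,44,52,20,40], [20,40,46,55,59,29], [17,34,36,56,52,24], [21,42,44,52,1,2],
   [20,40,46,55,47,53], [17,34,36,56,37,58], [20,40,46,55,21,42], [17,34,36,56,16,32], [16,32,38,59,55,25],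
   [45,54,48,16,8,12], [20,40,46,55,1,2], [17,34,36,56,1,2], [16,32,38,59,39,57], [45,54,48,16,37,58],
   [16,32,38,59,17,34], [45,54,48,16,56,28], [56,28,26,47,55,25], [47,53,51,17,8,12], [37,58,60,20,8,12],
   [16,32,38,59,1,2], [45,54,48,16,21,42], [56,28,26,47,15,5], [47,53,51,17,39,57], [37,58,60,20,45,54],
   [56,28,26,47,45,54], [47,53,51,17,59,29], [37,58,60,20,52,24], [59,29,27,45,52,24], [52,24,30,39,59,29],
   [39,57,63,21,8,12], [56,28,26,47,21,42], [47,53,51,17,20,40], [37,58,60,20,17,34], [59,29,27,45,15,5],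
   [52,24,30,39,15,5], [39,57,63,21,47,53], [59,29,27,45,47,53], [52,24,30,39,37,58], [39,57,63,21,55,25],
   [55,25,31,37,56,28], [8,12,10,15,47,53], [15,5,3,1,52,24], [59,29,27,45,20,40], [52,24,30,39,17,34],
   [39,57,63,21,16,32], [55,25,31,37,15,5], [8,12,10,15,39,57], [15,5,3,1,59,29], [55,25,31,37,39,57],
   [8,12,10,15,37,58], [15,5,3,1,55,25], [55,25,31,37,16,32], [8,12,10,15,45,54], [15,5,3,1,56,28],
   [1,3,5,15,16,48], [1,3,5,15,17,51], [1,3,5,15,20,60], [21,63,57,39,56,36], [1,3,5,15,21,63],
   [21,63,57,39,45,27], [21,63,57,39,20,60], [20,60,58,37,59,38], [17,51,53,47,52,44], [21,63,57,39,1,3],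
   [20,60,58,37,47,26], [17,51,53,47,37,31], [20,60,58,37,21,63], [17,51,53,47,16,48], [16,48,54,45,55,46],
   [45,27,29,59,8,4], [20,60,58,37,1,3], [17,51,53,47,1,3], [16,48,54,45,39,30], [45,27,29,59,37,31],
   [16,48,54,45,17,51], [45,27,29,59,56,36], [56,36,34,17,55,46], [47,26,28,56,8,4], [37,31,25,55,8,4],
   [16,48,54,45,1,3], [45,27,29,59,21,63], [56,36,34,17,15,10], [47,26,28,56,39,30], [37,31,25,55,45,27],
   [56,36,34,17,45,27], [47,26,28,56,59,38], [37,31,25,55,52,44], [59,38,32,16,52,44], [52,44,42,21,59,38],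
   [39,30,24,52,8,4], [56,36,34,17,21,63], [47,26,28,56,20,60], [37,31,25,55,17,51], [59,38,32,16,15,10],
   [52,44,42,21,15,10], [39,30,24,52,47,26], [59,38,32,16,47,26], [52,44,42,21,37,31], [39,30,24,52,55,46],
   [55,46,40,20,56,36], [8,4,2,1,47,26], [15,10,12,8,52,44], [59,38,32,16,20,60], [52,44,42,21,17,51],
   [39,30,24,52,16,48], [55,46,40,20,15,10], [8,4,2,1,39,30], [15,10,12,8,59,38], [55,46,40,20,39,30],
   [8,4,2,1,37,31], [15,10,12,8,55,46], [55,46,40,20,16,48], [8,4,2,1,45,27], [15,10,12,8,56,36]]
/-- all representatives -/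
def TP : List ℕ := T0 ++ T1

attribute [local irreducible] gQ gB QP QW T0 T1 BW cN TP

/-! ### Checks -/

theorem gQ_ok : ∀ P ∈ gQ, ok P = true := by decide +kernel
theorem gB_ok : ∀ P ∈ gB, ok P = true := by decide +kernel
theorem QP_ok : ∀ P ∈ QP, ok P = true := by decide +kernel
theorem TP_ok : ∀ P ∈ TP, ok P = true := by decide +kernel
theorem dP_ok : ok dP = true := by decide +kernel
theorem wP_ok : ok wP = true := by decide +kernel
theorem vP_ok : ok vP = true := by decide +kernel

/-- generator number `i` of `Q` -/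
noncomputable def ge (i : ℕ) : M24 := el (gQ.getD i idP)
/-- element number `m` of `Q` -/
noncomputable def qe (m : ℕ) : M24 := el (QP.getD m idP)
/-- representative number `j` -/
noncomputable def te (j : ℕ) : M24 := el (TP.getD j idP)
/-- the involution `X15 X24` -/
noncomputable def w : M24 := el wP
/-- the involution `X14 X24 X25` -/
noncomputable def v : M24 := el vP
/-- an involution of `C(w)` with `[d, v] = w` -/
noncomputable def d : M24 := el dP

theorem ge_ok (i : ℕ) : ok (gQ.getD i idP) = true := ok_getD gQ_ok i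
theorem qe_ok (m : ℕ) : ok (QP.getD m idP) = true := ok_getD QP_ok m
theorem te_ok (j : ℕ) : ok (TP.getD j idP) = true := ok_getD TP_ok j

theorem chk_mul : ∀ i < 6, ∀ m < 64,
    Nat.beq (pcomp (gQ.getD i idP) (QP.getD m idP)) (QP.getD (m ^^^ 2 ^ i) idP) = true := by decide +kernel

theorem chk_mul' : ∀ i < 6, ∀ m < 64,
    Nat.beq (pcomp (QP.getD m idP) (gQ.getD i idP)) (QP.getD (m ^^^ 2 ^ i) idP) = true := by decide +kernel

theorem ge_mul {i m : ℕ} (hi : i < 6) (hm : m < 64) : ge i * qe m = qe (m ^^^ 2 ^ i) := by
  unfold ge qe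
  rw [← el_pcomp (ge_ok i) (qe_ok m), Nat.eq_of_beq_eq_true (chk_mul i hi m hm)]

theorem qe_mul {i m : ℕ} (hi : i < 6) (hm : m < 64) : qe m * ge i = qe (m ^^^ 2 ^ i) := by
  unfold ge qe
  rw [← el_pcomp (qe_ok m) (ge_ok i), Nat.eq_of_beq_eq_true (chk_mul' i hi m hm)]

theorem qe_zero : qe 0 = 1 := by
  unfold qe
  rw [show QP.getD 0 idP = idP by decide +kernel, el_idP]

theorem xor_lt {i m : ℕ} (hi : i < 6) (hm : m < 64) : m ^^^ 2 ^ i < 64 :=
  Nat.xor_lt_two_pow (n := 6) hm (Nat.pow_lt_pow_right (by norm_num) hi)

theorem ge_qe {i : ℕ} (hi : i < 6) : ge i = qe (2 ^ i) := by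
  have h1 := qe_mul hi (m := 0) (by norm_num)
  rwa [qe_zero, one_mul, Nat.zero_xor] at h1

theorem two_pow_lt {i : ℕ} (hi : i < 6) : 2 ^ i < 64 := Nat.pow_lt_pow_right (n := 6) (by norm_num) hi

theorem ge_sq {i : ℕ} (hi : i < 6) : ge i * ge i = 1 := by
  have h2 := qe_mul hi (two_pow_lt hi)
  rwa [← ge_qe hi, Nat.xor_self, qe_zero] at h2

theorem ge_inv {i : ℕ} (hi : i < 6) : (ge i)⁻¹ = ge i := inv_eq_of_mul_eq_one_left (ge_sq hi)

theorem QW_ok : chkW gQ QP QW = true := by decide +kernel

theorem gQ_idx : ∀ P ∈ gQ, ∃ i < 6, P = gQ.getD i idP := by decide +kernel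

theorem QP_len : QP.length = 64 := by decide +kernel
theorem TP_len : TP.length = 120 := by decide +kernel
theorem gQ_len : gQ.length = 6 := by decide +kernel

/-- `Q` lies in every subgroup containing the six generators -/
theorem qe_mem {H : Subgroup M24} (hH : ∀ i < 6, ge i ∈ H) {m : ℕ} (hm : m < 64) : qe m ∈ H := by
  unfold qe
  rw [List.getD_eq_getElem _ _ (by rw [QP_len]; exact hm)]
  refine mem_of_chkW gQ_ok QW_ok ?_ (List.getElem_mem _)
  intro P hP
  obtain ⟨i, hi, rfl⟩ := gQ_idx P hP
  exact hH i hi

theorem qe_comm {a b : ℕ} (ha : a < 64) (hb : b < 64) : qe a * qe b = qe b * qe a := by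
  have h1 : qe b ∈ Subgroup.centralizer ({qe a} : Set M24) := by
    apply qe_mem _ hb
    intro i hi
    rw [Subgroup.mem_centralizer_singleton_iff, ge_mul hi ha, qe_mul hi ha]
  exact (Subgroup.mem_centralizer_singleton_iff.1 h1).symm

theorem chk_sq : ∀ m < 64, Nat.beq (pcomp (QP.getD m idP) (QP.getD m idP)) idP = true := by decide +kernel

theorem qe_sq {m : ℕ} (hm : m < 64) : qe m * qe m = 1 := by
  unfold qe
  rw [← el_pcomp (qe_ok m) (qe_ok m), Nat.eq_of_beq_eq_true (chk_sq m hm), el_idP]

/-- a code of the images of the orbit representatives -/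
def cd2 (P : ℕ) : ℕ := papp P (bse 0) + 24 * (papp P (bse 1) + 24 * (papp P (bse 2) + 24 * (papp P (bse 3) +
  24 * (papp P (bse 4) + 24 * papp P (bse 5)))))

theorem cd2_nd : nd (QP.map cd2) = true := by decide +kernel

theorem bse_lt : ∀ k < 6, bse k < 24 := by decide

theorem cd2_eq {P R : ℕ} (hP : ok P = true) (hR : ok R = true) (h : el P = el R) : cd2 P = cd2 R := by
  have h1 := (el_eq_iff hP hR).1 h
  unfold cd2
  rw [h1 _ (bse_lt 0 (by norm_num)), h1 _ (bse_lt 1 (by norm_num)), h1 _ (bse_lt 2 (by norm_num)),
    h1 _ (bse_lt 3 (by norm_num)), h1 _ (bse_lt 4 (by norm_num)), h1 _ (bse_lt 5 (by norm_num))]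

theorem getD_inj {l : List ℕ} {f : ℕ → ℕ} (hnd : nd (l.map f) = true) {a b x : ℕ} (ha : a < l.length)
    (hb : b < l.length) (h : f (l.getD a x) = f (l.getD b x)) : a = b := by
  have h1 := nodup_of_nd hnd
  have h2 : (l.map f)[a]'(by simpa using ha) = (l.map f)[b]'(by simpa using hb) := by
    rw [List.getElem_map, List.getElem_map]
    rwa [List.getD_eq_getElem _ _ ha, List.getD_eq_getElem _ _ hb] at h
  exact (List.Nodup.getElem_inj_iff h1).1 h2

theorem qe_inj {a b : ℕ} (ha : a < 64) (hb : b < 64) (h : qe a = qe b) : a = b :=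
  getD_inj cd2_nd (by rw [QP_len]; exact ha) (by rw [QP_len]; exact hb)
    (cd2_eq (qe_ok a) (qe_ok b) h)

/-! ### The cosets -/

theorem w_qe : w = qe 6 := by
  unfold w qe
  rw [show QP.getD 6 idP = wP by decide +kernel]

theorem v_qe : v = qe 13 := by
  unfold v qe
  rw [show QP.getD 13 idP = vP by decide +kernel]

theorem wv_qe : w * v = qe 11 := by
  have h := mul_eq_of_beq wP_ok vP_ok (qe_ok 11) ok_idP (by decide +kernel)
  rw [el_idP, mul_one] at h
  exact h

theorem ww : w * w = 1 := by rw [w_qe]; exact qe_sq (by norm_num)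
theorem vv : v * v = 1 := by rw [v_qe]; exact qe_sq (by norm_num)
theorem wv_comm : w * v = v * w := by rw [w_qe, v_qe]; exact qe_comm (by norm_num) (by norm_num)

theorem w_no_fix (p : GolayPt) : w • p ≠ p := by
  intro h
  have h1 := congrArg idx h
  unfold w at h1
  rw [idx_el_smul wP_ok] at h1
  have h2 : ∀ i < 24, papp wP i ≠ i := by decide +kernel
  exact h2 _ (idx_lt p) h1

theorem w_ne : w ≠ 1 := by
  intro h
  exact w_no_fix (pt 0) (by rw [h, one_smul])

theorem card_Cw : Nat.card (Subgroup.centralizer ({w} : Set M24)) = 7680 := by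
  obtain ⟨g, hg⟩ := Count.conj_w_of_no_fix ww w_ne w_no_fix
  exact (CentZ.card_centralizer_conj hg).trans Orders.card_centralizer_w

theorem chk_tw : ∀ j < 120, Nat.beq (pcomp (TP.getD j idP) wP) (pcomp wP (TP.getD j idP)) = true := by
  decide +kernel

theorem te_comm {j : ℕ} (hj : j < 120) : te j * w = w * te j :=
  mul_eq_of_beq (te_ok j) wP_ok wP_ok (te_ok j) (chk_tw j hj)

/-- the permutation of the orbits of `Q` induced by a representative, as a number -/
def cd (P : ℕ) : ℕ := tau (papp P (bse 0)) + 6 * (tau (papp P (bse 1)) + 6 * (tau (papp P (bse 2)) +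
  6 * (tau (papp P (bse 3)) + 6 * (tau (papp P (bse 4)) + 6 * tau (papp P (bse 5))))))

theorem cd_nd : nd (TP.map cd) = true := by decide +kernel

theorem chk_tau : ∀ j < 120, ∀ m < 24,
    Nat.beq (tau (papp (TP.getD j idP) m)) (tau (papp (TP.getD j idP) (bse (tau m)))) = true := by decide +kernel

theorem chk_bse : ∀ m < 64, ∀ k < 6, Nat.beq (tau (papp (QP.getD m idP) (bse k))) k = true := by decide +kernel

theorem papp_qe_lt (m : ℕ) {i : ℕ} (hi : i < 24) : papp (QP.getD m idP) i < 24 :=
  papp_lt (ok_iff.1 (qe_ok m)).1 hi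

theorem tau_eq {j m k : ℕ} (hj : j < 120) (hm : m < 64) (hk : k < 6) :
    tau (papp (TP.getD j idP) (papp (QP.getD m idP) (bse k))) = tau (papp (TP.getD j idP) (bse k)) := by
  rw [Nat.eq_of_beq_eq_true (chk_tau j hj _ (papp_qe_lt m (bse_lt k hk))),
    Nat.eq_of_beq_eq_true (chk_bse m hm k hk)]

theorem inj {j m j' m' : ℕ} (hj : j < 120) (hm : m < 64) (hj' : j' < 120) (hm' : m' < 64)
    (h : te j * qe m = te j' * qe m') : j = j' ∧ m = m' := by
  have h1 : ∀ k < 6, tau (papp (TP.getD j idP) (bse k)) = tau (papp (TP.getD j' idP) (bse k)) := by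
    intro k hk
    have h2 := congrArg (fun g : M24 => idx (g • pt (bse k))) h
    simp only [mul_smul] at h2
    unfold te qe at h2
    rw [idx_el_smul (te_ok j), idx_el_smul (te_ok j'), idx_el_smul (qe_ok m), idx_el_smul (qe_ok m'),
      idx_pt (bse_lt k hk)] at h2
    rw [← tau_eq hj hm hk, ← tau_eq hj' hm' hk, h2]
  have h3 : j = j' := by
    apply getD_inj cd_nd (x := idP) (by rw [TP_len]; exact hj) (by rw [TP_len]; exact hj')
    unfold cd
    rw [h1 0 (by norm_num), h1 1 (by norm_num), h1 2 (by norm_num), h1 3 (by norm_num), h1 4 (by norm_num),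
      h1 5 (by norm_num)]
  subst h3
  exact ⟨rfl, qe_inj hm hm' (mul_left_cancel h)⟩

/-- **The elements of `C(w)`.** -/
theorem cover {x : M24} (hx : x * w = w * x) : ∃ j < 120, ∃ m < 64, x = te j * qe m := by
  let f : Fin 120 × Fin 64 → Subgroup.centralizer ({w} : Set M24) := fun c => ⟨te c.1 * qe c.2, by
    rw [Subgroup.mem_centralizer_singleton_iff]
    have h1 : qe (c.2 : ℕ) * w = w * qe (c.2 : ℕ) := by rw [w_qe]; exact qe_comm c.2.2 (by norm_num)
    rw [mul_assoc, h1, ← mul_assoc, te_comm c.1.2, mul_assoc]⟩
  have hf : Function.Injective f := by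
    rintro ⟨j, m⟩ ⟨j', m'⟩ h
    obtain ⟨h1, h2⟩ := inj j.2 m.2 j'.2 m'.2 (congrArg Subtype.val h)
    rw [Prod.mk.injEq]
    exact ⟨Fin.ext h1, Fin.ext h2⟩
  have hb := (Nat.bijective_iff_injective_and_card f).2 ⟨hf, by
    rw [card_Cw, Nat.card_prod, Nat.card_eq_fintype_card, Nat.card_eq_fintype_card, Fintype.card_fin,
      Fintype.card_fin]⟩
  obtain ⟨c, hc⟩ := hb.2 ⟨x, Subgroup.mem_centralizer_singleton_iff.2 hx⟩
  exact ⟨c.1, c.1.2, c.2, c.2.2, (congrArg Subtype.val hc).symm⟩

/-! ### The action on `Q` -/

/-- `te j * ge i * (te j)⁻¹ = qe (cn j i)` -/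
def cn (j i : ℕ) : ℕ := (cN.getD j []).getD i 0

theorem chk_cn : ∀ j < 120, ∀ i < 6, (Nat.blt (cn j i) 64 &&
    Nat.beq (pcomp (TP.getD j idP) (gQ.getD i idP)) (pcomp (QP.getD (cn j i) idP) (TP.getD j idP))) = true := by
  decide +kernel

theorem cn_lt {j i : ℕ} (hj : j < 120) (hi : i < 6) : cn j i < 64 := by
  have h := chk_cn j hj i hi
  rw [Bool.and_eq_true, Nat.blt_eq] at h
  exact h.1

theorem te_conj {j i : ℕ} (hj : j < 120) (hi : i < 6) : te j * ge i * (te j)⁻¹ = qe (cn j i) := by
  have h := chk_cn j hj i hi
  rw [Bool.and_eq_true] at h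
  rw [mul_inv_eq_iff_eq_mul]
  unfold te ge qe
  exact mul_eq_of_beq (te_ok j) (ge_ok i) (qe_ok (cn j i)) (te_ok j) h.2

/-- the commutators with the generators of `Q` -/
theorem comm_ge {j m i : ℕ} (hj : j < 120) (hm : m < 64) (hi : i < 6) :
    (te j * qe m) * ge i * (te j * qe m)⁻¹ * (ge i)⁻¹ = qe (cn j i ^^^ 2 ^ i) := by
  have h1 : qe m * ge i = ge i * qe m := by
    rw [ge_qe hi]; exact qe_comm hm (two_pow_lt hi)
  calc (te j * qe m) * ge i * (te j * qe m)⁻¹ * (ge i)⁻¹ = te j * (qe m * ge i) * (qe m)⁻¹ * (te j)⁻¹ * (ge i)⁻¹ := by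
        group
    _ = (te j * ge i * (te j)⁻¹) * (ge i)⁻¹ := by rw [h1]; group
    _ = qe (cn j i) * ge i := by rw [te_conj hj hi, ge_inv hi]
    _ = _ := qe_mul hi (cn_lt hj hi)

theorem ge_comm_w {i : ℕ} (hi : i < 6) : ge i * w = w * ge i := by
  rw [ge_qe hi, w_qe]; exact qe_comm (two_pow_lt hi) (by norm_num)

theorem te_zero : te 0 = 1 := by
  unfold te
  rw [show TP.getD 0 idP = idP by decide +kernel, el_idP]

/-- a representative acting trivially modulo `⟨w, v⟩` is trivial -/
theorem chk_triv : ∀ j < 120, j = 0 ∨ ∃ i < 6, cn j i ^^^ 2 ^ i ∉ [0, 6, 13, 11] := by decide +kernel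

/-- the elements of `Q` outside `⟨w, v⟩`: either they or their product with `w` have a fixed point -/
theorem chk_fix : ∀ m < 64, m ∈ [0, 6, 13, 11] ∨ (∃ i < 24, papp (QP.getD m idP) i = i) ∨
    ∃ i < 24, papp (pcomp wP (QP.getD m idP)) i = i := by decide +kernel

theorem qe_cases {m : ℕ} (h : m ∈ [0, 6, 13, 11]) : qe m = 1 ∨ qe m = w ∨ qe m = v ∨ qe m = w * v := by
  simp only [List.mem_cons, List.not_mem_nil, or_false] at h
  rcases h with rfl | rfl | rfl | rfl
  · exact Or.inl qe_zero
  · exact Or.inr (Or.inl w_qe.symm)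
  · exact Or.inr (Or.inr (Or.inl v_qe.symm))
  · exact Or.inr (Or.inr (Or.inr wv_qe.symm))

/-- **Normal subgroups of `C(w)` without involutions of class `2A`.** -/
theorem normal_two {N : Subgroup M24} (hw : w ∈ N) (hle : ∀ n ∈ N, n * w = w * n)
    (hn : ∀ c : M24, c * w = w * c → ∀ n ∈ N, c * n * c⁻¹ ∈ N)
    (hfix : ∀ n ∈ N, n * n = 1 → n ≠ 1 → ∀ p : GolayPt, n • p ≠ p) {n : M24} (hnN : n ∈ N) :
    n = 1 ∨ n = w ∨ n = v ∨ n = w * v := by
  have key : ∀ m < 64, qe m ∈ N → m ∈ [0, 6, 13, 11] := by
    intro m hm h
    rcases chk_fix m hm with h1 | ⟨i, hi, h1⟩ | ⟨i, hi, h1⟩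
    · exact h1
    · by_contra hne
      apply hfix _ h (qe_sq hm) _ (pt i)
      · unfold qe
        rw [el_smul_pt (qe_ok m), idx_pt hi, h1]
      · intro h2
        rw [← qe_zero] at h2
        rw [qe_inj hm (by norm_num) h2] at hne
        exact hne (by decide)
    · by_contra hne
      have h2 : w * qe m = el (pcomp wP (QP.getD m idP)) := by
        unfold w qe
        rw [el_pcomp wP_ok (qe_ok m)]
      have h3 : (w * qe m) * (w * qe m) = 1 := by
        have h4 : w * qe m = qe m * w := by rw [w_qe]; exact qe_comm (by norm_num) hm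
        calc (w * qe m) * (w * qe m) = w * (qe m * w) * qe m := by group
          _ = (w * w) * (qe m * qe m) := by rw [← h4]; group
          _ = 1 := by rw [ww, qe_sq hm, one_mul]
      apply hfix _ (mul_mem hw h) h3 _ (pt i)
      · rw [h2, el_smul_pt (ok_pcomp wP_ok (qe_ok m)), idx_pt hi, h1]
      · intro h4
        have h5 : qe m = qe 6 := by
          rw [← w_qe]
          have h6 : qe m = w⁻¹ := by rw [← mul_right_inj w, h4, mul_inv_cancel]
          rw [h6, inv_eq_of_mul_eq_one_left ww]
        rw [qe_inj hm (by norm_num) h5] at hne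
        exact hne (by decide)
  obtain ⟨j, hj, m, hm, rfl⟩ := cover (hle n hnN)
  have h1 : ∀ i < 6, cn j i ^^^ 2 ^ i ∈ [0, 6, 13, 11] := by
    intro i hi
    apply key _ (xor_lt hi (cn_lt hj hi))
    rw [← comm_ge hj hm hi]
    have h2 := hn (ge i) (ge_comm_w hi) _ (inv_mem hnN)
    have e : (te j * qe m) * ge i * (te j * qe m)⁻¹ * (ge i)⁻¹ =
        (te j * qe m) * (ge i * (te j * qe m)⁻¹ * (ge i)⁻¹) := by group
    rw [e]
    exact mul_mem hnN h2
  rcases chk_triv j hj with rfl | ⟨i, hi, h2⟩
  · rw [te_zero, one_mul] at hnN ⊢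
    exact qe_cases (key m hm hnN)
  · exact absurd (h1 i hi) h2

/-- **`O(C(w)) = 1`.** -/
theorem odd_w (I : Subgroup M24) (hI : ∀ i ∈ I, i * w = w * i)
    (hn : ∀ c : M24, c * w = w * c → ∀ i ∈ I, c * i * c⁻¹ ∈ I) (ho : Odd (Nat.card I)) : I = ⊥ := by
  have key : ∀ m < 64, qe m ∈ I → m = 0 := by
    intro m hm h
    have h1 : qe m = 1 := by
      have h2 : orderOf (qe m) ∣ 2 := orderOf_dvd_of_pow_eq_one (by rw [pow_two]; exact qe_sq hm)
      have h3 : orderOf (qe m) ∣ Nat.card I := by
        have := orderOf_dvd_natCard (⟨qe m, h⟩ : I)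
        rwa [Subgroup.orderOf_mk] at this
      have h4 : orderOf (qe m) ∣ 1 := by
        rw [← Nat.Coprime.gcd_eq_one (ho.coprime_two_right)]
        exact Nat.dvd_gcd h3 h2
      exact orderOf_eq_one_iff.1 (Nat.dvd_one.1 h4)
    rw [← qe_zero] at h1
    exact qe_inj hm (by norm_num) h1
  rw [Subgroup.eq_bot_iff_forall]
  intro x hx
  obtain ⟨j, hj, m, hm, rfl⟩ := cover (hI x hx)
  have h1 : ∀ i < 6, cn j i ^^^ 2 ^ i = 0 := by
    intro i hi
    apply key _ (xor_lt hi (cn_lt hj hi))
    rw [← comm_ge hj hm hi]
    have h2 := hn (ge i) (ge_comm_w hi) _ (inv_mem hx)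
    have e : (te j * qe m) * ge i * (te j * qe m)⁻¹ * (ge i)⁻¹ =
        (te j * qe m) * (ge i * (te j * qe m)⁻¹ * (ge i)⁻¹) := by group
    rw [e]
    exact mul_mem hx h2
  rcases chk_triv j hj with rfl | ⟨i, hi, h2⟩
  · rw [te_zero, one_mul] at hx ⊢
    rw [key m hm hx, qe_zero]
  · exact absurd (by rw [h1 i hi]; decide) h2

/-! ### `L = C(w) ∩ C(v)` -/

theorem chk_tv : ∀ j < 120, j < 60 ∨ (List.range 24).any (fun i =>
    !(Nat.beq (papp (pcomp (TP.getD j idP) vP) i) (papp (pcomp vP (TP.getD j idP)) i))) = true := by decide +kernel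

theorem BW_ok : chkW gB T0 BW = true := by decide +kernel

theorem T0_len : T0.length = 60 := by decide +kernel

/-- the centraliser of `⟨w, v⟩` -/
noncomputable def LL : Subgroup M24 := Subgroup.centralizer ({w} : Set M24) ⊓ Subgroup.centralizer ({v} : Set M24)

theorem mem_LL {x : M24} : x ∈ LL ↔ x * w = w * x ∧ x * v = v * x := by
  unfold LL
  rw [Subgroup.mem_inf, Subgroup.mem_centralizer_singleton_iff, Subgroup.mem_centralizer_singleton_iff]

theorem w_ev : w = ev [3, 5] := by
  rw [← el_prodW_eq, show prodW gx [3, 5] = wP by decide +kernel]; rfl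

theorem v_ev : v = ev [2, 5, 6] := by
  rw [← el_prodW_eq, show prodW gx [2, 5, 6] = vP by decide +kernel]; rfl

theorem d_ev : d = ev [0, 9, 14] := by
  rw [← el_prodW_eq, show prodW gx [0, 9, 14] = dP by decide +kernel]; rfl

theorem ev_mem_LL {u : List ℕ} (h : (weqb (u ++ [3, 5]) ([3, 5] ++ u) && weqb (u ++ [2, 5, 6]) ([2, 5, 6] ++ u)) =
    true) : ev u ∈ LL := by
  rw [Bool.and_eq_true] at h
  rw [mem_LL, w_ev, v_ev, ← ev_append, ← ev_append, ← ev_append, ← ev_append]
  exact ⟨weq h.1, weq h.2⟩

/-- a subgroup containing the generators contains `L` -/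
theorem LL_le {H : Subgroup M24} (hQ : ∀ i < 6, ge i ∈ H) (hB : ∀ P ∈ gB, el P ∈ H) : LL ≤ H := by
  intro x hx
  rw [mem_LL] at hx
  obtain ⟨j, hj, m, hm, rfl⟩ := cover hx.1
  have hqv : qe m * v = v * qe m := by rw [v_qe]; exact qe_comm hm (by norm_num)
  have htv : te j * v = v * te j := by
    have h1 : te j = (te j * qe m) * (qe m)⁻¹ := by group
    have h2 : (qe m)⁻¹ * v = v * (qe m)⁻¹ := by
      rw [inv_mul_eq_iff_eq_mul, ← mul_assoc, hqv, mul_assoc, mul_inv_cancel, mul_one]
    calc te j * v = (te j * qe m) * ((qe m)⁻¹ * v) := by group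
      _ = (te j * qe m) * v * (qe m)⁻¹ := by rw [h2]; group
      _ = v * (te j * qe m) * (qe m)⁻¹ := by rw [hx.2]
      _ = _ := by group
  apply mul_mem
  · rcases chk_tv j hj with h1 | h1
    · unfold te TP
      rw [List.getD_append _ _ _ _ (by rw [T0_len]; exact h1), List.getD_eq_getElem _ _ (by rw [T0_len]; exact h1)]
      exact mem_of_chkW gB_ok BW_ok hB (List.getElem_mem _)
    · exfalso
      obtain ⟨i, hi, h2⟩ := List.any_eq_true.1 h1
      rw [Bool.not_eq_true'] at h2
      apply el_ne (ok_pcomp (te_ok j) vP_ok) (ok_pcomp vP_ok (te_ok j)) (List.mem_range.1 hi) h2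
      rw [el_pcomp (te_ok j) vP_ok, el_pcomp vP_ok (te_ok j)]
      exact htv
  · exact qe_mem hQ hm

/-- the generators as commutators -/
def cmL : List (List ℕ × List ℕ × List ℕ) := [([2], [7], [1]), ([3], [8], [1]), ([5], [7], [4]), ([6], [8], [4]),
  ([7], [2], [4, 10, 16, 10]), ([8], [3], [4, 10, 16, 10]),
  ([1], [4], [10, 16, 10, 4, 10, 16, 10, 4, 1, 10, 16, 10]),
  ([4], [1], [10, 16, 10, 4, 1, 10, 16, 10, 4, 10, 16, 10]),
  ([10, 16, 10], [4 , 10, 16, 10, 4, 1], [4, 10, 16, 10, 4, 1, 10, 16, 10])]

/-- membership test -/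
def inL (u : List ℕ) : Bool := weqb (u ++ [3, 5]) ([3, 5] ++ u) && weqb (u ++ [2, 5, 6]) ([2, 5, 6] ++ u)

theorem cmL_ok : (cmL.all fun e => inL e.2.1 && inL e.2.2 &&
    weqb (e.2.1 ++ e.2.2) (e.1 ++ (e.2.2 ++ e.2.1))) = true := by decide +kernel

theorem mem_comm_of {u a b : List ℕ} (h : (u, a, b) ∈ cmL) : ev u ∈ (⁅LL, LL⁆ : Subgroup M24) := by
  have h1 := List.all_eq_true.1 cmL_ok _ h
  simp only [Bool.and_eq_true] at h1
  obtain ⟨⟨h2, h3⟩, h4⟩ := h1
  have h5 := weq h4
  rw [ev_append, ev_append, ev_append] at h5
  have h6 : ev u = ⁅ev a, ev b⁆ := by rw [commutatorElement_def, h5]; group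
  rw [h6]
  exact Subgroup.commutator_mem_commutator (ev_mem_LL h2) (ev_mem_LL h3)

/-- **`L = C(⟨w, v⟩)` is perfect.** -/
theorem L_perfect : (⁅LL, LL⁆ : Subgroup M24) = LL := by
  apply le_antisymm
  · rw [Subgroup.commutator_le]
    intro a ha b hb
    rw [commutatorElement_def]
    exact LL.mul_mem (LL.mul_mem (LL.mul_mem ha hb) (LL.inv_mem ha)) (LL.inv_mem hb)
  · apply LL_le
    · intro i hi
      have h1 : ∀ i < 6, gQ.getD i idP = prodW gx [[2, 3, 5, 6, 7, 8].getD i 0] := by decide +kernel
      unfold ge
      rw [h1 i hi, el_prodW_eq]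
      interval_cases i
      · exact mem_comm_of (a := [7]) (b := [1]) (by decide)
      · exact mem_comm_of (a := [8]) (b := [1]) (by decide)
      · exact mem_comm_of (a := [7]) (b := [4]) (by decide)
      · exact mem_comm_of (a := [8]) (b := [4]) (by decide)
      · exact mem_comm_of (a := [2]) (b := [4, 10, 16, 10]) (by decide)
      · exact mem_comm_of (a := [3]) (b := [4, 10, 16, 10]) (by decide)
    · intro P hP
      have h1 : ∀ P ∈ gB, P = prodW gx [1] ∨ P = prodW gx [4] ∨ P = prodW gx [10, 16, 10] := by decide +kernel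
      rcases h1 P hP with rfl | rfl | rfl
      · rw [el_prodW_eq]
        exact mem_comm_of (a := [4]) (b := [10, 16, 10, 4, 10, 16, 10, 4, 1, 10, 16, 10]) (by decide)
      · rw [el_prodW_eq]
        exact mem_comm_of (a := [1]) (b := [10, 16, 10, 4, 1, 10, 16, 10, 4, 10, 16, 10]) (by decide)
      · rw [el_prodW_eq]
        exact mem_comm_of (a := [4 , 10, 16, 10, 4, 1]) (b := [4, 10, 16, 10, 4, 1, 10, 16, 10]) (by decide)

theorem w_mem_LL : w ∈ LL := mem_LL.2 ⟨rfl, wv_comm⟩
theorem v_mem_LL : v ∈ LL := mem_LL.2 ⟨wv_comm.symm, rfl⟩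

theorem d_comm : d * w = w * d := by
  rw [d_ev, w_ev, ← ev_append, ← ev_append]
  exact weq (by decide +kernel)

theorem d_v : d * v * d⁻¹ * v⁻¹ = w := by
  have h1 : d * v = w * (v * d) := by
    rw [d_ev, w_ev, v_ev, ← ev_append, ← ev_append, ← ev_append]
    exact weq (by decide +kernel)
  rw [h1]; group

end Cfsg.Agent.KFacts.M24Two.CentW
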