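import Cfsg.Agent.KFacts.M24Two.Count

/-!
# The orders of the centralisers of the involutions of `M24` (continued)

`card_centralizer_z : |C(z)| = 21504`, `card_centralizer_w : |C(w)| = 7680`.
-/

set_option autoImplicit false

namespace Cfsg.Agent.KFacts.M24Two.Orders

open Cfsg Cfsg.Agent.SporadicA.GolayBase Cfsg.Agent.SporadicA.GolayPerm
open Cfsg.Agent.SporadicStructure.M24El Cfsg.Agent.J4.M24InvolData Cfsg.Agent.J4.M24Invol
open Cfsg.Agent.KFacts.M24Two.Tool Cfsg.Agent.KFacts.M24Two.Count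
open scoped Pointwise

/-! ### The sets `A` -/

theorem kind_cases {k : ℕ} (hk : k < 4) {v : M24} (hv : ∀ i < 6, v • F0 i = F0 (pat k i))
    (h1 : v ≠ 1) (h2 : v * v = 1) :
    (∃ r ∈ rows k 1, v = el r.2.2.1 ∧ ∃ g : M24, g⁻¹ * z * g = v) ∨
      (∃ r ∈ rows k 2, v = el r.2.2.1 ∧ ∃ g : M24, g⁻¹ * w * g = v) := by
  obtain ⟨r, hr0, hr1, hr, hvr⟩ := exists_row_of_pat hk hv
  obtain ⟨hok, -, -, (⟨-, h | ⟨i, hi, h⟩⟩ | ⟨h3, h4, h5⟩ | ⟨h3, h4, h5⟩)⟩ := row_spec hr
  · exact absurd (by rw [hvr, h, el_idP]) h1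
  · exfalso
    apply h
    have h3 : v • v • pt i = pt i := by rw [smul_smul, h2, one_smul]
    have h4 := congrArg idx h3
    rw [hvr, idx_el_smul hok, idx_el_smul hok, idx_pt hi] at h4
    exact h4
  · left
    refine ⟨r, mem_rows.2 ⟨hr0, hr1, h3, hr⟩, hvr, el r.2.2.2.2, ?_⟩
    have h6 := congrArg el h5
    rw [el_pcomp h4 hok, el_pcomp ok_P1 h4] at h6
    show (el r.2.2.2.2)⁻¹ * el P1 * el r.2.2.2.2 = v
    rw [mul_assoc, ← h6, hvr, inv_mul_cancel_left]
  · right
    refine ⟨r, mem_rows.2 ⟨hr0, hr1, h3, hr⟩, hvr, el r.2.2.2.2, ?_⟩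
    have h6 := congrArg el h5
    rw [el_pcomp h4 hok, el_pcomp ok_P2 h4] at h6
    show (el r.2.2.2.2)⁻¹ * el P2 * el r.2.2.2.2 = v
    rw [mul_assoc, ← h6, hvr, inv_mul_cancel_left]

theorem conj_sq {G : Type*} [Group G] {u v g : G} (h : g⁻¹ * u * g = v) (hu : u * u = 1) : v * v = 1 := by
  rw [← h]
  calc g⁻¹ * u * g * (g⁻¹ * u * g) = g⁻¹ * (u * u) * g := by group
    _ = 1 := by rw [hu]; group

theorem conj_ne_one {G : Type*} [Group G] {u v g : G} (h : g⁻¹ * u * g = v) (hu : u ≠ 1) : v ≠ 1 := by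
  intro h1
  apply hu
  have : u = g * v * g⁻¹ := by rw [← h]; group
  rw [this, h1]; group

theorem not_both {u : M24} {g h : M24} (h1 : g⁻¹ * z * g = u) (h2 : h⁻¹ * w * h = u) : False := by
  apply not_conj (h * g⁻¹)
  calc h * g⁻¹ * z * (h * g⁻¹)⁻¹ = h * (g⁻¹ * z * g) * h⁻¹ := by group
    _ = h * (h⁻¹ * w * h) * h⁻¹ := by rw [h1, h2]
    _ = w := by group

theorem row_conj {k : ℕ} {r : ℕ × ℕ × ℕ × ℕ × ℕ} (hr : r ∈ rows k 1) : ∃ g : M24, g⁻¹ * z * g = el r.2.2.1 := by
  obtain ⟨-, -, hk, hr⟩ := mem_rows.1 hr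
  obtain ⟨hok, -, -, (⟨h3, -⟩ | ⟨-, h4, h5⟩ | ⟨h3, -, -⟩)⟩ := row_spec hr
  · rw [h3] at hk; exact absurd hk (by norm_num)
  · refine ⟨el r.2.2.2.2, ?_⟩
    have h6 := congrArg el h5
    rw [el_pcomp h4 hok, el_pcomp ok_P1 h4] at h6
    show (el r.2.2.2.2)⁻¹ * el P1 * el r.2.2.2.2 = _
    rw [mul_assoc, ← h6, inv_mul_cancel_left]
  · rw [h3] at hk; exact absurd hk (by norm_num)

theorem row_conj' {k : ℕ} {r : ℕ × ℕ × ℕ × ℕ × ℕ} (hr : r ∈ rows k 2) : ∃ g : M24, g⁻¹ * w * g = el r.2.2.1 := by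
  obtain ⟨-, -, hk, hr⟩ := mem_rows.1 hr
  obtain ⟨hok, -, -, (⟨h3, -⟩ | ⟨h3, -, -⟩ | ⟨-, h4, h5⟩)⟩ := row_spec hr
  · rw [h3] at hk; exact absurd hk (by norm_num)
  · rw [h3] at hk; exact absurd hk (by norm_num)
  · refine ⟨el r.2.2.2.2, ?_⟩
    have h6 := congrArg el h5
    rw [el_pcomp h4 hok, el_pcomp ok_P2 h4] at h6
    show (el r.2.2.2.2)⁻¹ * el P2 * el r.2.2.2.2 = _
    rw [mul_assoc, ← h6, inv_mul_cancel_left]

/-- the elements of the frame pattern `k` conjugate to `z` -/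
def Az (k : ℕ) : Set M24 := {v : M24 | (∃ g : M24, g⁻¹ * z * g = v) ∧ ∀ i < 6, v • F0 i = F0 (pat k i)}
/-- the elements of the frame pattern `k` conjugate to `w` -/
def Aw (k : ℕ) : Set M24 := {v : M24 | (∃ g : M24, g⁻¹ * w * g = v) ∧ ∀ i < 6, v • F0 i = F0 (pat k i)}

theorem Az_eq {k : ℕ} (hk : k < 4) : Az k = {v : M24 | ∃ r ∈ rows k 1, v = el r.2.2.1} := by
  ext v
  constructor
  · rintro ⟨⟨g, hg⟩, hv⟩
    rcases kind_cases hk hv (conj_ne_one hg z_ne_one) (conj_sq hg zz) with ⟨r, hr, h, -⟩ | ⟨r, hr, h, g', hg'⟩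
    · exact ⟨r, hr, h⟩
    · exact (not_both hg hg').elim
  · rintro ⟨r, hr, rfl⟩
    refine ⟨row_conj hr, fun i hi => ?_⟩
    have h := (mem_rows.1 hr)
    rw [el_row_frame h.2.2.2 hi, h.2.1]

theorem Aw_eq {k : ℕ} (hk : k < 4) : Aw k = {v : M24 | ∃ r ∈ rows k 2, v = el r.2.2.1} := by
  ext v
  constructor
  · rintro ⟨⟨g, hg⟩, hv⟩
    rcases kind_cases hk hv (conj_ne_one hg w_ne_one) (conj_sq hg ww) with ⟨r, hr, h, g', hg'⟩ | ⟨r, hr, h, -⟩
    · exact (not_both hg' hg).elim
    · exact ⟨r, hr, h⟩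
  · rintro ⟨r, hr, rfl⟩
    refine ⟨row_conj' hr, fun i hi => ?_⟩
    have h := (mem_rows.1 hr)
    rw [el_row_frame h.2.2.2 hi, h.2.1]

theorem card_Az : Nat.card (Az 0) = 15 := by
  rw [Nat.card_coe_set_eq, Az_eq (by norm_num)]
  exact ncard_rows 0 1 15 rows_z.1 rows_z.2

theorem card_Aw : Nat.card (Aw 3) = 6 := by
  rw [Nat.card_coe_set_eq, Aw_eq (by norm_num)]
  exact ncard_rows 3 2 6 rows_w.1 rows_w.2

/-! ### The octads fixed by `w` -/

/-- the masks of the octads fixed by `w` -/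
def L15 : List ℕ := [10558, 115766, 126216, 786999, 797449, 902657, 4325622, 4336072, 4441280, 5112513,
  11538486, 11548936, 11654144, 12325377, 15864000]

theorem L15_ok : (L15.all fun m => Nat.blt m 16777216 && isCode m && Nat.beq (popcount m) 8 &&
    Nat.beq (pimg P2 m) m) = true := by decide +kernel

theorem L15_nodup : L15.Nodup := by decide +kernel

theorem L15_compl : allR 12 0 (fun i => !(Nat.beq (popcount (enc i)) 8) ||
    !(Nat.beq (pimg P2 (enc i)) (enc i)) || L15.any (Nat.beq (enc i))) = true := by decide +kernel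

/-- the octads fixed by `w` -/
def FO : Finset (Finset GolayPt) := L15.toFinset.image fin

theorem mem_FO {o : Finset GolayPt} : o ∈ FO ↔ o ∈ octads ∧ w • o = o := by
  have h0 := L15_ok
  simp only [List.all_eq_true, Bool.and_eq_true, Nat.blt_eq, Nat.beq_eq] at h0
  constructor
  · intro h
    obtain ⟨m, hm, rfl⟩ := Finset.mem_image.1 h
    rw [List.mem_toFinset] at hm
    obtain ⟨⟨⟨h1, h2⟩, h3⟩, h4⟩ := h0 m hm
    refine ⟨(fin_mem_octads_iff (by simpa using h1)).2 ⟨h2, h3⟩, ?_⟩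
    unfold w
    rw [el_smul_fin ok_P2, h4]
  · rintro ⟨h1, h2⟩
    obtain ⟨h3, h4⟩ := (mem_octads_iff o).1 h1
    obtain ⟨i, hi, hi'⟩ := isCode_iff_exists.1 h3
    have h5 := allR_zero_spec L15_compl i (by simpa using hi)
    simp only [Bool.or_eq_true, Bool.not_eq_true', List.any_eq_true] at h5
    rw [← hi'] at h5
    have h6 : pimg P2 (maskOf o) = maskOf o := by
      rw [← maskOf_smul (ok_iff.1 ok_P2).1, ← coe_el ok_P2]
      exact congrArg maskOf h2
    rcases h5 with (h5 | h5) | ⟨m, hm, h5⟩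
    · rw [h4] at h5
      exact absurd h5 (by decide)
    · rw [h6, Nat.beq_refl] at h5
      exact absurd h5 (by decide)
    · rw [FO, Finset.mem_image]
      refine ⟨m, List.mem_toFinset.2 hm, ?_⟩
      rw [← Nat.eq_of_beq_eq_true h5, fin_maskOf]

theorem card_FO : FO.card = 15 := by
  have h0 := L15_ok
  simp only [List.all_eq_true, Bool.and_eq_true, Nat.blt_eq, Nat.beq_eq] at h0
  rw [FO, Finset.card_image_of_injOn, List.toFinset_card_of_nodup L15_nodup]
  · rfl
  · intro m hm n hn h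
    simp only [Finset.mem_coe, List.mem_toFinset] at hm hn
    exact fin_injective (by simpa using (h0 m hm).1.1.1) (by simpa using (h0 n hn).1.1.1) h

/-! ### Adapted frames of `w` -/

open Classical in
/-- the adapted frames of `w` -/
noncomputable def T : Finset (Σ _ : Finset GolayPt, Σ _ : GolayPt, Σ _ : GolayPt, Σ _ : GolayPt, GolayPt) :=
  FO.sigma fun o => o.sigma fun x => (o \ {x, w • x}).sigma fun y =>
    (o \ {x, w • x, y, w • y}).sigma fun _ => oᶜ

theorem card_T : T.card = 46080 := by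
  classical
  have hw : ∀ o ∈ FO, ∀ x ∈ o, w • x ∈ o := by
    intro o ho x hx
    have h1 : w • x ∈ w • o := Finset.smul_mem_smul_finset hx
    rwa [(mem_FO.1 ho).2] at h1
  have hw2 : ∀ x : GolayPt, w • w • x = x := fun x => by rw [smul_smul, ww, one_smul]
  rw [T, Finset.card_sigma]
  have h1 : ∀ o ∈ FO, (o.sigma fun x => (o \ {x, w • x}).sigma fun y =>
      (o \ {x, w • x, y, w • y}).sigma fun _ => oᶜ).card = 8 * (6 * (4 * 16)) := by
    intro o ho
    have ho8 := octad_card (mem_FO.1 ho).1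
    rw [Finset.card_sigma]
    rw [Finset.sum_const_nat (m := 6 * (4 * 16)), ho8]
    intro x hx
    have hwx := hw o ho x hx
    have hx2 : ({x, w • x} : Finset GolayPt) ⊆ o := by
      intro r hr
      rcases Finset.mem_insert.1 hr with rfl | hr
      · exact hx
      · rw [Finset.mem_singleton.1 hr]; exact hwx
    rw [Finset.card_sigma]
    rw [Finset.sum_const_nat (m := 4 * 16), Finset.card_sdiff_of_subset hx2, ho8,
      Finset.card_pair (w_ne x).symm]
    intro y hy
    rw [Finset.mem_sdiff, Finset.mem_insert, Finset.mem_singleton] at hy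
    push Not at hy
    obtain ⟨hyo, hyx, hywx⟩ := hy
    have hwy := hw o ho y hyo
    have hx4 : ({x, w • x, y, w • y} : Finset GolayPt) ⊆ o := by
      intro r hr
      simp only [Finset.mem_insert, Finset.mem_singleton] at hr
      rcases hr with rfl | rfl | rfl | rfl
      · exact hx
      · exact hwx
      · exact hyo
      · exact hwy
    have hcard : ({x, w • x, y, w • y} : Finset GolayPt).card = 4 := by
      rw [Finset.card_insert_of_notMem, Finset.card_insert_of_notMem, Finset.card_pair (w_ne y).symm]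
      · rw [Finset.mem_insert, Finset.mem_singleton]
        push Not
        exact ⟨fun h => hywx h.symm, fun h => hyx (MulAction.injective w h).symm⟩
      · simp only [Finset.mem_insert, Finset.mem_singleton]
        push Not
        refine ⟨(w_ne x).symm, fun h => hyx h.symm, fun h => hywx ?_⟩
        rw [h, hw2]
    rw [Finset.card_sigma]
    rw [Finset.sum_const_nat (m := 16), Finset.card_sdiff_of_subset hx4, ho8, hcard]
    intro _ _
    exact card_compl_octad (mem_FO.1 ho).1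
  rw [Finset.sum_const_nat h1, card_FO]

theorem pat3 : pat 3 0 = 1 ∧ pat 3 1 = 0 ∧ pat 3 2 = 3 ∧ pat 3 3 = 2 ∧ pat 3 4 = 5 ∧ pat 3 5 = 4 := by decide

theorem pat0 : ∀ i < 6, pat 0 i = i := by decide

/-- the elements mapping the frame to a frame adapted to `w` -/
abbrev Sw : Type := {g : M24 // ∀ i < 6, w • g • F0 i = g • F0 (pat 3 i)}

theorem Sw_fix (g : Sw) : w • (g : M24) • O0 = (g : M24) • O0 := by
  have h := smul_O0 (g := w * (g : M24)) (o := (g : M24) • O0) (smul_mem_octads _ O0_mem) (by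
    intro i hi
    rw [mul_smul, g.2 i hi]
    exact Finset.smul_mem_smul_finset (F0_mem (pat_lt 3 (by norm_num) i hi)))
  rwa [mul_smul] at h

theorem F0_ne (g : M24) {i j : ℕ} (hi : i < 6) (hj : j < 6) (hij : i ≠ j) : g • F0 i ≠ g • F0 j :=
  fun h => hij (F0_inj i hi j hj (MulAction.injective g h))

/-- the adapted frame -/
noncomputable def toT (g : Sw) : (Σ _ : Finset GolayPt, Σ _ : GolayPt, Σ _ : GolayPt, Σ _ : GolayPt, GolayPt) :=
  ⟨(g : M24) • O0, (g : M24) • F0 0, (g : M24) • F0 2, (g : M24) • F0 4, (g : M24) • p7⟩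

theorem toT_mem (g : Sw) : toT g ∈ T := by
  classical
  unfold toT T
  have h0 : w • (g : M24) • F0 0 = (g : M24) • F0 1 := g.2 0 (by norm_num)
  have h2 : w • (g : M24) • F0 2 = (g : M24) • F0 3 := g.2 2 (by norm_num)
  have hm : ∀ i < 6, (g : M24) • F0 i ∈ (g : M24) • O0 := fun i hi => Finset.smul_mem_smul_finset (F0_mem hi)
  rw [Finset.mem_sigma, Finset.mem_sigma, Finset.mem_sigma, Finset.mem_sigma]
  dsimp only
  rw [h0, h2, mem_FO, Finset.mem_sdiff, Finset.mem_sdiff, Finset.mem_compl]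
  simp only [Finset.mem_insert, Finset.mem_singleton]
  push Not
  refine ⟨⟨smul_mem_octads _ O0_mem, Sw_fix g⟩, hm 0 (by norm_num), ⟨hm 2 (by norm_num), F0_ne _ (by norm_num)
    (by norm_num) (by norm_num), F0_ne _ (by norm_num) (by norm_num) (by norm_num)⟩, ⟨hm 4 (by norm_num),
    F0_ne _ (by norm_num) (by norm_num) (by norm_num), F0_ne _ (by norm_num) (by norm_num) (by norm_num),
    F0_ne _ (by norm_num) (by norm_num) (by norm_num), F0_ne _ (by norm_num) (by norm_num) (by norm_num)⟩, ?_⟩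
  intro h
  exact p7_notMem ((Finset.smul_mem_smul_finset_iff _).1 h)

theorem toT_injective : Function.Injective toT := by
  intro g h e
  unfold toT at e
  rw [Sigma.mk.injEq] at e
  obtain ⟨-, e⟩ := e
  have e := eq_of_heq e
  rw [Sigma.mk.injEq] at e
  obtain ⟨e0, e⟩ := e
  have e := eq_of_heq e
  rw [Sigma.mk.injEq] at e
  obtain ⟨e2, e⟩ := e
  have e := eq_of_heq e
  rw [Sigma.mk.injEq] at e
  obtain ⟨e4, e⟩ := e
  have e7 := eq_of_heq e
  have step : ∀ i < 6, (g : M24) • F0 i = (h : M24) • F0 i → (g : M24) • F0 (pat 3 i) = (h : M24) • F0 (pat 3 i) := by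
    intro i hi hh
    rw [← g.2 i hi, ← h.2 i hi, hh]
  apply Subtype.ext
  apply frame_ext _ e7
  intro i hi
  interval_cases i
  · exact e0
  · exact step 0 (by norm_num) e0
  · exact e2
  · exact step 2 (by norm_num) e2
  · exact e4
  · exact step 4 (by norm_num) e4

theorem toT_surj (t) (ht : t ∈ T) : ∃ g : Sw, toT g = t := by
  classical
  obtain ⟨o, x, y, u, p⟩ := t
  unfold T at ht
  rw [Finset.mem_sigma, Finset.mem_sigma, Finset.mem_sigma, Finset.mem_sigma] at ht
  dsimp only at ht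
  rw [mem_FO, Finset.mem_sdiff, Finset.mem_sdiff, Finset.mem_compl] at ht
  simp only [Finset.mem_insert, Finset.mem_singleton] at ht
  push Not at ht
  obtain ⟨⟨ho, hwo⟩, hx, ⟨hy, hyx, hyx'⟩, ⟨hu, hux, hux', huy, huy'⟩, hp⟩ := ht
  have hw2 : ∀ x : GolayPt, w • w • x = x := fun x => by rw [smul_smul, ww, one_smul]
  have hw : ∀ x ∈ o, w • x ∈ o := by
    intro x hx
    have h1 : w • x ∈ w • o := Finset.smul_mem_smul_finset hx
    rwa [hwo] at h1
  -- distinctness
  have hne := fun x : GolayPt => w_ne x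
  have sw : ∀ a b : GolayPt, a ≠ w • b → w • a ≠ b := fun a b h e => h (by rw [← e, hw2])
  have ww' : ∀ a b : GolayPt, a ≠ b → w • a ≠ w • b := fun a b h e => h (MulAction.injective w e)
  let a : ℕ → GolayPt := fun i => match i with
    | 0 => x | 1 => w • x | 2 => y | 3 => w • y | 4 => u | _ => w • u
  have ha : ∀ i < 6, ∀ j < 6, a i = a j → i = j := by
    intro i hi j hj h
    interval_cases i <;> interval_cases j <;> simp only [a] at h <;>
      first
      | rfl
      | exact absurd h (hne _)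
      | exact absurd h.symm (hne _)
      | exact absurd h hyx | exact absurd h.symm hyx
      | exact absurd h hyx' | exact absurd h.symm hyx'
      | exact absurd h hux | exact absurd h.symm hux
      | exact absurd h hux' | exact absurd h.symm hux'
      | exact absurd h huy | exact absurd h.symm huy
      | exact absurd h huy' | exact absurd h.symm huy'
      | exact absurd h (sw _ _ hyx') | exact absurd h.symm (sw _ _ hyx')
      | exact absurd h (sw _ _ hux') | exact absurd h.symm (sw _ _ hux')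
      | exact absurd h (sw _ _ huy') | exact absurd h.symm (sw _ _ huy')
      | exact absurd h (ww' _ _ hyx) | exact absurd h.symm (ww' _ _ hyx)
      | exact absurd h (ww' _ _ hux) | exact absurd h.symm (ww' _ _ hux)
      | exact absurd h (ww' _ _ huy) | exact absurd h.symm (ww' _ _ huy)
  have hao : ∀ i < 6, a i ∈ o := by
    intro i hi
    interval_cases i
    · exact hx
    · exact hw x hx
    · exact hy
    · exact hw y hy
    · exact hu
    · exact hw u hu
  obtain ⟨g, hg1, hg2, hg3⟩ := exists_frame_map ho ha hao hp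
  have hg : ∀ i < 6, w • g • F0 i = g • F0 (pat 3 i) := by
    intro i hi
    rw [hg1 i hi, hg1 _ (pat_lt 3 (by norm_num) i hi)]
    interval_cases i
    · rfl
    · exact hw2 x
    · rfl
    · exact hw2 y
    · rfl
    · exact hw2 u
  refine ⟨⟨g, hg⟩, ?_⟩
  unfold toT
  dsimp only
  rw [hg1 0 (by norm_num), hg1 2 (by norm_num), hg1 4 (by norm_num), hg2, hg3]
  rfl

theorem card_Sw : Nat.card Sw = 46080 := by
  rw [← card_T]
  have h1 : Nat.card Sw = Nat.card {t // t ∈ T} := by
    refine Nat.card_congr (Equiv.ofBijective (fun g => (⟨toT g, toT_mem g⟩ : {t // t ∈ T})) ⟨?_, ?_⟩)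
    · intro g h e
      exact toT_injective (congrArg Subtype.val e)
    · rintro ⟨t, ht⟩
      obtain ⟨g, hg⟩ := toT_surj t ht
      exact ⟨g, Subtype.ext hg⟩
  rw [h1, Nat.card_eq_fintype_card, Fintype.card_coe]

/-- **`|C(w)| = 7680`** -/
theorem card_centralizer_w : Nat.card (Subgroup.centralizer ({w} : Set M24)) = 7680 := by
  have h1 := card_conjugators w (Aw 3) fun a ha => ha.1
  have h2 : Nat.card {g : M24 // g⁻¹ * w * g ∈ Aw 3} = Nat.card Sw := by
    refine Nat.card_congr (Equiv.subtypeEquivRight fun g => ?_)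
    constructor
    · rintro ⟨-, h⟩ i hi
      rw [← h i hi, smul_smul, smul_smul]
      congr 1
      group
    · intro h
      refine ⟨⟨g, rfl⟩, fun i hi => ?_⟩
      rw [mul_smul, mul_smul, h i hi, inv_smul_smul]
  rw [h2, card_Sw, card_Aw] at h1
  omega

/-! ### Adapted frames of `z` -/

/-- the elements mapping the frame to fixed points of `z` -/
abbrev Sz : Type := {g : M24 // ∀ i < 6, z • g • F0 i = g • F0 (pat 0 i)}

theorem card_Sz : Nat.card Sz = 322560 := by
  classical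
  have h8 : Fintype.card {x // x ∈ O0} = 8 := by rw [Fintype.card_coe, octad_card O0_mem]
  have h16 : Fintype.card {x // x ∈ O0ᶜ} = 16 := by rw [Fintype.card_coe, card_compl_octad O0_mem]
  have h1 : Nat.card ((Fin 6 ↪ {x // x ∈ O0}) × {x // x ∈ O0ᶜ}) = 322560 := by
    rw [Nat.card_prod, Nat.card_eq_fintype_card, Nat.card_eq_fintype_card, Fintype.card_embedding_eq, h8, h16,
      Fintype.card_fin]
    decide
  rw [← h1]
  have hmem : ∀ g : Sz, ∀ i < 6, (g : M24) • F0 i ∈ O0 := by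
    intro g i hi
    have h := g.2 i hi
    rw [pat0 i hi] at h
    exact (z_fix_iff _).1 h
  have hO : ∀ g : Sz, (g : M24) • O0 = O0 := fun g => smul_O0 O0_mem (hmem g)
  have hp : ∀ g : Sz, (g : M24) • p7 ∈ O0ᶜ := by
    intro g
    rw [Finset.mem_compl]
    intro h
    rw [← hO g] at h
    exact p7_notMem ((Finset.smul_mem_smul_finset_iff _).1 h)
  refine Nat.card_congr (Equiv.ofBijective (fun g => (⟨⟨fun i => ⟨(g : M24) • F0 i, hmem g i i.2⟩, ?_⟩,
    ⟨(g : M24) • p7, hp g⟩⟩ : (Fin 6 ↪ {x // x ∈ O0}) × {x // x ∈ O0ᶜ})) ⟨?_, ?_⟩)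
  · intro i j h
    by_contra hij
    exact F0_ne (g : M24) i.2 j.2 (fun e => hij (Fin.ext e)) (congrArg Subtype.val h)
  · intro g h e
    rw [Prod.mk.injEq] at e
    obtain ⟨e1, e2⟩ := e
    apply Subtype.ext
    apply frame_ext
    · intro i hi
      have := congrArg (fun f : Fin 6 ↪ {x // x ∈ O0} => ((f ⟨i, hi⟩ : {x // x ∈ O0}) : GolayPt)) e1
      exact this
    · exact congrArg Subtype.val e2
  · rintro ⟨a, p⟩
    have hp' : (p : GolayPt) ∉ O0 := Finset.mem_compl.1 p.2
    obtain ⟨g, hg1, hg2, hg3⟩ := exists_frame_map O0_mem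
      (a := fun i => if h : i < 6 then ((a ⟨i, h⟩ : {x // x ∈ O0}) : GolayPt) else p7) (by
        intro i hi j hj h
        rw [dif_pos hi, dif_pos hj] at h
        have := a.injective (Subtype.ext h)
        exact congrArg Fin.val this) (by
        intro i hi
        rw [dif_pos hi]
        exact (a ⟨i, hi⟩).2) hp'
    have hg1' : ∀ (i : ℕ) (hi : i < 6), g • F0 i = ((a ⟨i, hi⟩ : {x // x ∈ O0}) : GolayPt) := by
      intro i hi
      rw [hg1 i hi, dif_pos hi]
    refine ⟨⟨g, fun i hi => ?_⟩, ?_⟩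
    · rw [pat0 i hi, z_fix_iff, hg1' i hi]
      exact (a ⟨i, hi⟩).2
    · rw [Prod.mk.injEq]
      refine ⟨?_, Subtype.ext hg2⟩
      apply Function.Embedding.ext
      intro i
      exact Subtype.ext (hg1' i i.2)

/-- **`|C(z)| = 21504`** -/
theorem card_centralizer_z : Nat.card (Subgroup.centralizer ({z} : Set M24)) = 21504 := by
  have h1 := card_conjugators z (Az 0) fun a ha => ha.1
  have h2 : Nat.card {g : M24 // g⁻¹ * z * g ∈ Az 0} = Nat.card Sz := by
    refine Nat.card_congr (Equiv.subtypeEquivRight fun g => ?_)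
    constructor
    · rintro ⟨-, h⟩ i hi
      rw [← h i hi, smul_smul, smul_smul]
      congr 1
      group
    · intro h
      refine ⟨⟨g, rfl⟩, fun i hi => ?_⟩
      rw [mul_smul, mul_smul, h i hi, inv_smul_smul]
  rw [h2, card_Sz, card_Az] at h1
  omega

end Cfsg.Agent.KFacts.M24Two.Orders
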