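import Cfsg.Agent.KFacts.M24Two.Tool
import Cfsg.Agent.J4.M24Invol

/-!
# The orders of the centralisers of the involutions of `M24`

`z = el P1` (eight fixed points), `w = el P2` (no fixed point): `|C(z)| = 21504`, `|C(w)| = 7680`; `z` and `w` are not
conjugate.
-/

set_option autoImplicit false

namespace Cfsg.Agent.KFacts.M24Two.Count

open Cfsg Cfsg.Agent.SporadicA.GolayBase Cfsg.Agent.SporadicA.GolayPerm
open Cfsg.Agent.SporadicStructure.M24El Cfsg.Agent.J4.M24InvolData Cfsg.Agent.J4.M24Invol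
open Cfsg.Agent.KFacts.M24Two.Tool
open scoped Pointwise

/-- the involution with eight fixed points -/
noncomputable def z : M24 := el P1
/-- the involution without fixed points -/
noncomputable def w : M24 := el P2

/-! ### Counting conjugators -/

/-- `#{g : g⁻¹ w g ∈ A} = |A| |C(w)|` for a set `A` of conjugates of `w` -/
theorem card_conjugators {G : Type*} [Group G] (w : G) (A : Set G)
    (hA : ∀ a ∈ A, ∃ g : G, g⁻¹ * w * g = a) :
    Nat.card {g : G // g⁻¹ * w * g ∈ A} = Nat.card A * Nat.card (Subgroup.centralizer ({w} : Set G)) := by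
  choose! c hc using hA
  rw [← Nat.card_prod]
  symm
  refine Nat.card_congr (Equiv.ofBijective (fun x : A × Subgroup.centralizer ({w} : Set G) =>
    (⟨x.2 * c x.1, ?_⟩ : {g : G // g⁻¹ * w * g ∈ A})) ⟨?_, ?_⟩)
  · have h1 : (x.2 : G) * w = w * x.2 := Subgroup.mem_centralizer_singleton_iff.1 x.2.2
    have h2 : ((x.2 : G) * c x.1)⁻¹ * w * (x.2 * c x.1) = x.1 := by
      calc ((x.2 : G) * c x.1)⁻¹ * w * (x.2 * c x.1)
          = (c x.1)⁻¹ * ((x.2 : G)⁻¹ * (w * x.2)) * c x.1 := by group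
        _ = (c x.1)⁻¹ * w * c x.1 := by rw [← h1]; group
        _ = x.1 := hc _ x.1.2
    rw [h2]
    exact x.1.2
  · rintro ⟨a, x⟩ ⟨b, y⟩ h
    have h0 : (x : G) * c a = y * c b := congrArg Subtype.val h
    have hx : (x : G) * w = w * x := Subgroup.mem_centralizer_singleton_iff.1 x.2
    have hy : (y : G) * w = w * y := Subgroup.mem_centralizer_singleton_iff.1 y.2
    have h1 : ((x : G) * c a)⁻¹ * w * (x * c a) = a := by
      calc ((x : G) * c a)⁻¹ * w * (x * c a)
          = (c a)⁻¹ * ((x : G)⁻¹ * (w * x)) * c a := by group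
        _ = (c a)⁻¹ * w * c a := by rw [← hx]; group
        _ = a := hc _ a.2
    have h2 : ((y : G) * c b)⁻¹ * w * (y * c b) = b := by
      calc ((y : G) * c b)⁻¹ * w * (y * c b)
          = (c b)⁻¹ * ((y : G)⁻¹ * (w * y)) * c b := by group
        _ = (c b)⁻¹ * w * c b := by rw [← hy]; group
        _ = b := hc _ b.2
    have h3 : a = b := Subtype.ext (by rw [← h1, ← h2, h0])
    subst h3
    rw [mul_left_inj] at h0
    rw [Subtype.ext h0]
  · rintro ⟨g, hg⟩
    have h1 := hc _ hg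
    refine ⟨⟨⟨_, hg⟩, ⟨g * (c (g⁻¹ * w * g))⁻¹, ?_⟩⟩, ?_⟩
    · rw [Subgroup.mem_centralizer_singleton_iff]
      have h2 : w * c (g⁻¹ * w * g) = c (g⁻¹ * w * g) * (g⁻¹ * w * g) := by
        calc w * c (g⁻¹ * w * g)
            = c (g⁻¹ * w * g) * ((c (g⁻¹ * w * g))⁻¹ * w * c (g⁻¹ * w * g)) := by group
          _ = _ := by rw [h1]
      have h3 : (c (g⁻¹ * w * g))⁻¹ * w = g⁻¹ * w * g * (c (g⁻¹ * w * g))⁻¹ := by
        rw [inv_mul_eq_iff_eq_mul, ← mul_assoc, eq_mul_inv_iff_mul_eq]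
        exact h2
      rw [mul_assoc, h3]
      group
    · apply Subtype.ext
      show g * (c (g⁻¹ * w * g))⁻¹ * c (g⁻¹ * w * g) = g
      rw [inv_mul_cancel_right]

/-! ### Frames -/

/-- the octad of the frame -/
def O0 : Finset GolayPt := fin octMask
/-- the points of the frame -/
def F0 (i : ℕ) : GolayPt := pt (fr.getD i 0)
/-- the seventh point of the frame -/
def p7 : GolayPt := pt s7

theorem O0_mem : O0 ∈ octads := octMask_mem

theorem fr_lt {i : ℕ} (hi : i < 6) : fr.getD i 0 < 24 := by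
  revert i; decide

theorem fr_inj : ∀ i < 6, ∀ j < 6, fr.getD i 0 = fr.getD j 0 → i = j := by decide

theorem F0_mem {i : ℕ} (hi : i < 6) : F0 i ∈ O0 := by
  have hfr := fr_ok
  simp only [List.all_eq_true, List.mem_range, Bool.and_eq_true, Nat.blt_eq] at hfr
  have : pt (fr.getD i 0) ∈ fin octMask := by
    rw [mem_fin, idx_pt (hfr i hi).2]
    exact (hfr i hi).1
  exact this

theorem F0_inj : ∀ i < 6, ∀ j < 6, F0 i = F0 j → i = j := by
  intro i hi j hj h
  have := congrArg idx h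
  unfold F0 at this
  rw [idx_pt (fr_lt hi), idx_pt (fr_lt hj)] at this
  exact fr_inj i hi j hj this

theorem p7_notMem : p7 ∉ O0 := by
  have : pt s7 ∉ fin octMask := by
    rw [mem_fin, idx_pt (by norm_num [s7])]
    decide
  exact this

theorem pat_lt : ∀ k < 4, ∀ i < 6, pat k i < 6 := by decide

/-- an element of `M24` mapping the six points of the frame into an octad `o` maps `O0` onto `o` -/
theorem smul_O0 {g : M24} {o : Finset GolayPt} (ho : o ∈ octads) (h : ∀ i < 6, g • F0 i ∈ o) : g • O0 = o := by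
  apply octad_unique (smul_mem_octads g O0_mem) ho
  have hsub : (Finset.univ.image fun i : Fin 6 => g • F0 i) ⊆ g • O0 ∩ o := by
    intro r hr
    obtain ⟨i, -, rfl⟩ := Finset.mem_image.mp hr
    rw [Finset.mem_inter]
    exact ⟨Finset.smul_mem_smul_finset (F0_mem i.2), h i i.2⟩
  have hc := Finset.card_le_card hsub
  rw [Finset.card_image_of_injective _ (fun i j h => Fin.ext
    (F0_inj i i.2 j j.2 (MulAction.injective g h))), Finset.card_univ, Fintype.card_fin] at hc
  omega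

theorem exists_frame_map {o : Finset GolayPt} (ho : o ∈ octads) {a : ℕ → GolayPt}
    (ha : ∀ i < 6, ∀ j < 6, a i = a j → i = j) (hao : ∀ i < 6, a i ∈ o) {p : GolayPt} (hp : p ∉ o) :
    ∃ g : M24, (∀ i < 6, g • F0 i = a i) ∧ g • p7 = p ∧ g • O0 = o := by
  obtain ⟨g, ⟨hgM, hg1, hg2⟩, -⟩ :=
    Cfsg.Agent.SporadicStructure.M24Frame.exists_unique_frame_map O0_mem ho
      (a := fun i : Fin 6 => F0 i) (a' := fun i : Fin 6 => a i)
      (fun i j h => Fin.ext (F0_inj i i.2 j j.2 h))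
      (fun i j h => Fin.ext (ha i i.2 j j.2 h))
      (fun i => F0_mem i.2) (fun i => hao i i.2) (p := p7) (p' := p) p7_notMem hp
  have h1 : ∀ i < 6, (⟨g, hgM⟩ : M24) • F0 i = a i := fun i hi => hg1 ⟨i, hi⟩
  exact ⟨⟨g, hgM⟩, h1, hg2, smul_O0 ho fun i hi => by rw [h1 i hi]; exact hao i hi⟩

theorem frame_ext {g h : M24} (h1 : ∀ i < 6, g • F0 i = h • F0 i) (h2 : g • p7 = h • p7) : g = h := by
  have h3 : h⁻¹ * g = 1 := by
    apply Subtype.ext
    apply Cfsg.Agent.SporadicStructure.M24Frame.eq_one_of_fix_frame (h⁻¹ * g).2 O0_mem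
      (s := Finset.univ.image fun i : Fin 6 => F0 i)
    · intro r hr
      obtain ⟨i, -, rfl⟩ := Finset.mem_image.mp hr
      exact F0_mem i.2
    · rw [Finset.card_image_of_injective _ (fun i j h => Fin.ext (F0_inj i i.2 j j.2 h)),
        Finset.card_univ, Fintype.card_fin]
    · intro r hr
      obtain ⟨i, -, rfl⟩ := Finset.mem_image.mp hr
      show (h⁻¹ * g) • F0 i = F0 i
      rw [mul_smul, h1 i i.2, inv_smul_smul]
    · exact p7_notMem
    · show (h⁻¹ * g) • p7 = p7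
      rw [mul_smul, h2, inv_smul_smul]
  rw [inv_mul_eq_one] at h3
  exact h3.symm

theorem card_compl_octad {o : Finset GolayPt} (ho : o ∈ octads) : (oᶜ).card = 16 := by
  rw [Finset.card_compl, octad_card ho]
  rfl

/-! ### Elements acting on the frame as a given pattern -/

/-- a row of the table is found -/
theorem exists_row' {k q : ℕ} (hk : k < 4) (hq : q < 24) (hqo : octMask.testBit q = false) :
    ∃ r ∈ tab, r.1 = k ∧ r.2.1 = q ∧ rowOk r = true := by
  have h := tab_ok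
  rw [List.all_eq_true] at h
  have h1 := h k (List.mem_range.mpr hk)
  rw [List.all_eq_true] at h1
  have h2 := h1 q (List.mem_range.mpr hq)
  rw [hqo, Bool.false_or, List.any_eq_true] at h2
  obtain ⟨r, hr0, hr⟩ := h2
  rw [Bool.and_eq_true, Bool.and_eq_true, Nat.beq_eq, Nat.beq_eq] at hr
  exact ⟨r, hr0, hr.1.1, hr.1.2, hr.2⟩

/-- the content of a row -/
theorem row_spec {r : ℕ × ℕ × ℕ × ℕ × ℕ} (hr : rowOk r = true) :
    ok r.2.2.1 = true ∧ (∀ i < 6, papp r.2.2.1 (fr.getD i 0) = fr.getD (pat r.1 i) 0) ∧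
      papp r.2.2.1 s7 = r.2.1 ∧ ((r.2.2.2.1 = 0 ∧ (r.2.2.1 = idP ∨
        ∃ i < 24, papp r.2.2.1 (papp r.2.2.1 i) ≠ i)) ∨
      (r.2.2.2.1 = 1 ∧ ok r.2.2.2.2 = true ∧ pcomp r.2.2.2.2 r.2.2.1 = pcomp P1 r.2.2.2.2) ∨
      (r.2.2.2.1 = 2 ∧ ok r.2.2.2.2 = true ∧ pcomp r.2.2.2.2 r.2.2.1 = pcomp P2 r.2.2.2.2)) := by
  unfold rowOk at hr
  simp only [Bool.and_eq_true, Bool.or_eq_true, Nat.beq_eq, List.all_eq_true,
    List.any_eq_true, List.mem_range, Bool.not_eq_true'] at hr
  obtain ⟨⟨⟨h1, h2⟩, h3⟩, h4⟩ := hr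
  refine ⟨h1, h2, h3, ?_⟩
  rcases h4 with (⟨h4, h5⟩ | ⟨⟨h4, h5⟩, h6⟩) | ⟨⟨h4, h5⟩, h6⟩
  · refine Or.inl ⟨h4, ?_⟩
    rcases h5 with h5 | ⟨i, hi, h5⟩
    · exact Or.inl h5
    · refine Or.inr ⟨i, hi, fun e => ?_⟩
      rw [e, Nat.beq_refl] at h5
      exact absurd h5 (by decide)
  · exact Or.inr (Or.inl ⟨h4, h5, h6⟩)
  · exact Or.inr (Or.inr ⟨h4, h5, h6⟩)

theorem el_row_frame {r : ℕ × ℕ × ℕ × ℕ × ℕ} (hr : rowOk r = true) {i : ℕ} (hi : i < 6) :
    el r.2.2.1 • F0 i = F0 (pat r.1 i) := by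
  obtain ⟨h1, h2, -, -⟩ := row_spec hr
  unfold F0
  rw [el_smul_pt h1, idx_pt (fr_lt hi), h2 i hi]

theorem el_row_p7 {r : ℕ × ℕ × ℕ × ℕ × ℕ} (hr : rowOk r = true) : el r.2.2.1 • p7 = pt r.2.1 := by
  obtain ⟨h1, -, h3, -⟩ := row_spec hr
  unfold p7
  rw [el_smul_pt h1, idx_pt (by norm_num [s7]), h3]

/-- an element of `M24` acting on the frame as the pattern `k` is in the table -/
theorem exists_row_of_pat {k : ℕ} (hk : k < 4) {v : M24} (hv : ∀ i < 6, v • F0 i = F0 (pat k i)) :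
    ∃ r ∈ tab, r.1 = k ∧ rowOk r = true ∧ v = el r.2.2.1 := by
  have hvo : v • O0 = O0 := smul_O0 O0_mem fun i hi => by
    rw [hv i hi]; exact F0_mem (pat_lt k hk i hi)
  have hq : octMask.testBit (idx (v • p7)) = false := by
    rw [Bool.eq_false_iff]
    intro h
    have h3 : v • p7 ∈ O0 := mem_fin.mpr h
    rw [← hvo] at h3
    exact p7_notMem ((Finset.smul_mem_smul_finset_iff v).mp h3)
  obtain ⟨r, hr0, hr1, hr2, hr⟩ := exists_row' hk (idx_lt _) hq
  refine ⟨r, hr0, hr1, hr, frame_ext (fun i hi => ?_) ?_⟩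
  · rw [hv i hi, el_row_frame hr hi, hr1]
  · rw [el_row_p7 hr, hr2, pt_idx]

/-! ### Fixed points; `z` and `w` are not conjugate -/

theorem zz : z * z = 1 := by
  unfold z
  rw [← el_pcomp ok_P1 ok_P1, show pcomp P1 P1 = idP by decide +kernel, el_idP]

theorem ww : w * w = 1 := by
  unfold w
  rw [← el_pcomp ok_P2 ok_P2, show pcomp P2 P2 = idP by decide +kernel, el_idP]

theorem w_ne (p : GolayPt) : w • p ≠ p := by
  intro h
  unfold w at h
  have h1 := congrArg idx h
  rw [idx_el_smul ok_P2] at h1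
  have h2 : ∀ i < 24, papp P2 i ≠ i := by decide +kernel
  exact h2 _ (idx_lt p) h1

theorem z_fix_iff (p : GolayPt) : z • p = p ↔ p ∈ O0 := by
  have h2 : ∀ i < 24, papp P1 i = i ↔ octMask.testBit i = true := by decide +kernel
  have h3 := h2 _ (idx_lt p)
  unfold O0
  rw [mem_fin, ← h3]
  constructor
  · intro h
    have h1 := congrArg idx h
    unfold z at h1
    rwa [idx_el_smul ok_P1] at h1
  · intro h
    apply idx_injective
    unfold z
    rw [idx_el_smul ok_P1, h]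

theorem z_ne_one : z ≠ 1 := by
  intro h
  have h1 := z_fix_iff p7
  rw [h, one_smul] at h1
  exact p7_notMem (h1.1 rfl)

theorem w_ne_one : w ≠ 1 := by
  intro h
  have := w_ne p7
  rw [h, one_smul] at this
  exact this rfl

/-- `z` and `w` are not conjugate -/
theorem not_conj (g : M24) : g * z * g⁻¹ ≠ w := by
  intro h
  apply w_ne (g • F0 0)
  rw [← h, mul_smul, mul_smul, inv_smul_smul, (z_fix_iff _).2 (F0_mem (by norm_num))]

/-- an involution is conjugate to `z` or to `w` -/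
theorem conj_or (u : M24) (hu : u * u = 1) (h1 : u ≠ 1) :
    (∃ g : M24, g * u * g⁻¹ = z) ∨ ∃ g : M24, g * u * g⁻¹ = w := by
  obtain ⟨g, hg | hg⟩ := invol_conj u hu h1
  · exact Or.inl ⟨g, hg⟩
  · exact Or.inr ⟨g, hg⟩

/-- an involution with a fixed point is conjugate to `z` -/
theorem conj_z_of_fix {u : M24} (hu : u * u = 1) (h1 : u ≠ 1) {p : GolayPt} (hp : u • p = p) :
    ∃ g : M24, g * u * g⁻¹ = z := by
  rcases conj_or u hu h1 with h | ⟨g, hg⟩
  · exact h
  · exfalso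
    apply w_ne (g • p)
    rw [← hg, mul_smul, mul_smul, inv_smul_smul, hp]

/-- a fixed-point-free involution is conjugate to `w` -/
theorem conj_w_of_no_fix {u : M24} (hu : u * u = 1) (h1 : u ≠ 1) (hp : ∀ p : GolayPt, u • p ≠ p) :
    ∃ g : M24, g * u * g⁻¹ = w := by
  rcases conj_or u hu h1 with ⟨g, hg⟩ | h
  · exfalso
    apply hp (g⁻¹ • F0 0)
    have h2 : u = g⁻¹ * z * g := by rw [← hg]; group
    rw [h2, mul_smul, mul_smul, smul_inv_smul, (z_fix_iff _).2 (F0_mem (by norm_num))]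
  · exact h

/-! ### The sets `A` -/

/-- the rows with given pattern and kind -/
def rows (k kind : ℕ) : List (ℕ × ℕ × ℕ × ℕ × ℕ) :=
  tab.filter fun r => Nat.beq r.1 k && Nat.beq r.2.2.2.1 kind && rowOk r

theorem mem_rows {k kind : ℕ} {r : ℕ × ℕ × ℕ × ℕ × ℕ} :
    r ∈ rows k kind ↔ r ∈ tab ∧ r.1 = k ∧ r.2.2.2.1 = kind ∧ rowOk r = true := by
  unfold rows
  rw [List.mem_filter, Bool.and_eq_true, Bool.and_eq_true, Nat.beq_eq, Nat.beq_eq, and_assoc]

theorem rows_w : ((rows 3 2).map fun r => r.2.1).length = 6 ∧ ((rows 3 2).map fun r => r.2.1).Nodup := by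
  constructor <;> decide +kernel

theorem rows_z : ((rows 0 1).map fun r => r.2.1).length = 15 ∧ ((rows 0 1).map fun r => r.2.1).Nodup := by
  constructor <;> decide +kernel

theorem rows_lt : ∀ r ∈ tab, r.2.1 < 24 := by decide +kernel

/-- number of elements in the rows -/
theorem ncard_rows (k kind n : ℕ) (hn : ((rows k kind).map fun r => r.2.1).length = n)
    (hd : ((rows k kind).map fun r => r.2.1).Nodup) :
    {v : M24 | ∃ r ∈ rows k kind, v = el r.2.2.1}.ncard = n := by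
  classical
  have hd' : (rows k kind).Nodup := List.Nodup.of_map _ hd
  have h1 : {v : M24 | ∃ r ∈ rows k kind, v = el r.2.2.1} =
      (((rows k kind).toFinset.image fun r => el r.2.2.1 : Finset M24) : Set M24) := by
    ext v
    simp only [Set.mem_ofPred_eq, Finset.coe_image, Set.mem_image, Finset.mem_coe, List.mem_toFinset]
    constructor
    · rintro ⟨r, hr, rfl⟩; exact ⟨r, hr, rfl⟩
    · rintro ⟨r, hr, rfl⟩; exact ⟨r, hr, rfl⟩
  rw [h1, Set.ncard_coe_finset, Finset.card_image_of_injOn, List.toFinset_card_of_nodup hd',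
    ← hn, List.length_map]
  intro r hr s hs h
  simp only [Finset.mem_coe, List.mem_toFinset] at hr hs
  have hr' := mem_rows.1 hr
  have hs' := mem_rows.1 hs
  have h2 : pt r.2.1 = pt s.2.1 := by
    have h3 : el r.2.2.1 = el s.2.2.1 := h
    rw [← el_row_p7 hr'.2.2.2, h3, el_row_p7 hs'.2.2.2]
  have h3 : r.2.1 = s.2.1 := by
    have := congrArg idx h2
    rwa [idx_pt (rows_lt r hr'.1), idx_pt (rows_lt s hs'.1)] at this
  exact (List.inj_on_of_nodup_map hd) hr hs h3

end Cfsg.Agent.KFacts.M24Two.Count
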