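import Cfsg.Agent.KFacts.M24Two.Octad
import Cfsg.Agent.KFacts.M24Pair.Sub

/-!
# The facts about the octad group in the notation of `KFacts/M24Pair/Sub`

`cl_eq_gen : CentZ.cl ls = Sub.gen ls`; `factsE : FactsE (xx 3) (Sub.gen [0, 1, 2, 3])`.
-/

set_option autoImplicit false

namespace Cfsg.Agent.KFacts.M24Two.Join

open Cfsg Cfsg.Agent.KFacts.M24Pair.Letters Cfsg.Agent.OddHalf.M24 Cfsg.Agent.KFacts.M24Pair

theorem cl_eq_gen (ls : List ℕ) : CentZ.cl ls = Sub.gen ls := rfl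

theorem factsE : FactsE (xx 3) (Sub.gen [0, 1, 2, 3]) := Octad.factsE

end Cfsg.Agent.KFacts.M24Two.Join
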