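import Cfsg.Agent.KFacts.M24Two.QGroup
import Cfsg.Agent.J4.M24Hom

/-!
# Every automorphism of `M24` is inner

`exists_conj (α : MulAut M24) : ∃ k, α = MulAut.conj k`.

An automorphism fixing `z` maps `E1` to `E1` or to `E2` (`map_E1`); `E2` is excluded, because every element moving `z` in the
normaliser of `E2` would make `C(X25)` normalise `E2`. After an inner automorphism it is trivial on `E1` and on `Q/⟨z⟩`, and
`KFacts.OutQ.exists_conj` applies.
-/

set_option autoImplicit false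

namespace Cfsg.Agent.KFacts.M24Two.Out

open Cfsg Cfsg.Agent.SporadicA.GolayBase Cfsg.Agent.SporadicA.GolayPerm
open Cfsg.Agent.SporadicStructure.M24El Cfsg.Agent.KFacts.M24Two.CentZ Cfsg.Agent.KFacts.M24Two.Octad
open Cfsg.Agent.KFacts.M24Two.QGroup
open Cfsg.Agent.KFacts.M24Pair.Letters Cfsg.Agent.OddHalf.M24 Cfsg.Agent.Co2Type.Quad
open scoped Pointwise

/-! ### Classes -/

theorem sq_of_Cl {u : M24} (h : u ∈ Cl z) : u * u = 1 ∧ u ≠ 1 := by
  obtain ⟨k, hk⟩ := h
  constructor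
  · rw [← hk]
    calc k * z * k⁻¹ * (k * z * k⁻¹) = k * (z * z) * k⁻¹ := by group
      _ = 1 := by rw [zz]; group
  · intro h1
    apply z_ne
    rw [h1] at hk
    calc z = k⁻¹ * (k * z * k⁻¹) * k := by group
      _ = 1 := by rw [hk]; group

theorem card_map_centralizer {G : Type*} [Group G] (α : MulAut G) (u : G) :
    Nat.card (Subgroup.centralizer ({α u} : Set G)) = Nat.card (Subgroup.centralizer ({u} : Set G)) := by
  symm
  refine Nat.card_congr (Equiv.subtypeEquiv α.toEquiv fun x => ?_)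
  show x ∈ Subgroup.centralizer ({u} : Set G) ↔ α x ∈ Subgroup.centralizer ({α u} : Set G)
  rw [Subgroup.mem_centralizer_singleton_iff, Subgroup.mem_centralizer_singleton_iff, ← map_mul, ← map_mul,
    α.injective.eq_iff]

/-- an automorphism preserves the class of `z` -/
theorem map_Cl (α : MulAut M24) {u : M24} (h : u ∈ Cl z) : α u ∈ Cl z := by
  obtain ⟨h1, h2⟩ := sq_of_Cl h
  have h3 : α u * α u = 1 := by rw [← map_mul, h1, map_one]
  have h4 : α u ≠ 1 := fun e => h2 ((map_eq_one_iff α α.injective).1 e)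
  obtain ⟨g', hg'⟩ := conj_z
  rcases Count.conj_or (α u) h3 h4 with ⟨g, hg⟩ | ⟨g, hg⟩
  · refine ⟨g⁻¹ * g', ?_⟩
    have e1 : g⁻¹ * g' * z * (g⁻¹ * g')⁻¹ = g⁻¹ * (g' * z * g'⁻¹) * g := by group
    rw [e1, hg', ← hg]; group
  · exfalso
    have h5 := card_centralizer_conj hg
    obtain ⟨k, hk⟩ := h
    have h6 := card_centralizer_conj hk
    have h7 : Nat.card (Subgroup.centralizer ({z} : Set M24)) = 21504 := card_C
    rw [Orders.card_centralizer_w, card_map_centralizer, ← h6, h7] at h5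
    omega

/-- elements of the class of `z` have fixed points -/
theorem fix_of_Cl {u : M24} (h : u ∈ Cl z) : ∃ p : GolayPt, u • p = p := by
  obtain ⟨k, hk⟩ := h
  refine ⟨k • pt 6, ?_⟩
  rw [← hk, mul_smul, mul_smul, inv_smul_smul, z_fix]

/-! ### The images of `E1` -/

variable {α : MulAut M24}

theorem map_mem_C (hα : α z = z) {c : M24} (hc : c ∈ C) : α c ∈ C := by
  rw [mem_C] at hc ⊢
  have h := congrArg α hc
  rwa [map_mul, map_mul, hα] at h

theorem symm_mem_C (hα : α z = z) {c : M24} (hc : c ∈ C) : ∃ d ∈ C, α d = c := by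
  obtain ⟨d, rfl⟩ := α.surjective c
  refine ⟨d, ?_, rfl⟩
  rw [mem_C] at hc ⊢
  apply α.injective
  rw [map_mul, map_mul, hα]
  exact hc

theorem E1_le_C : E1 ≤ C := E1_le_Q.trans Q_le_C

theorem E2_le_C : E2 ≤ C := E2_le_Q.trans Q_le_C

/-- an automorphism fixing `z` maps `E1` to `E1` or to `E2` -/
theorem map_E1 (hα : α z = z) : (∀ e ∈ E1, α e ∈ E1) ∨ ((∀ e ∈ E1, α e ∈ E2) ∧ ∀ f ∈ E2, ∃ e ∈ E1, α e = f) := by
  by_cases hb : ∃ b ∈ E1, α b ∈ E1 ∧ b ≠ 1 ∧ b ≠ z
  · left
    obtain ⟨b, hb, hb', h1, h2⟩ := hb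
    -- `α` maps `C`-classes to `C`-classes
    intro e he
    by_cases he1 : e = 1
    · rw [he1, map_one]; exact E1.one_mem
    by_cases hez : e = z
    · rw [hez, hα]; exact z_mem_E1
    obtain ⟨c, hc, hc'⟩ := E1_trans he he1 hez
    obtain ⟨d, hd, hd'⟩ := E1_trans hb h1 h2
    have h3 : e = c * d⁻¹ * b * (c * d⁻¹)⁻¹ := by rw [← hc', ← hd']; group
    rw [h3, map_mul, map_mul, map_inv]
    exact E1_normal (map_mem_C hα (C.mul_mem hc (C.inv_mem hd))) hb'
  · right
    push Not at hb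
    have h1 : ∀ e ∈ E1, α e ∈ E2 := by
      intro e he
      by_cases he1 : e = 1
      · rw [he1, map_one]; exact E2.one_mem
      by_cases hez : e = z
      · rw [hez, hα]; exact xx_mem (rs := [3, 6, 8, 9]) (r := 3) (by decide)
      have heC : α e ∈ C := map_mem_C hα (E1_le_C he)
      obtain ⟨f, hf, w, hw, h2⟩ := mem_words heC (by
        intro r hr
        have hrE : xx r ∈ E1 := xx_mem (by revert r; decide)
        have h3 : α e * xx r * (α e)⁻¹ * (xx r)⁻¹ ∈ E1 :=
          E1.mul_mem (E1_normal heC hrE) (E1.inv_mem hrE)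
        obtain ⟨d, hd, hd'⟩ := symm_mem_C hα (E1_le_C hrE)
        have h4 : e * (d * e⁻¹ * d⁻¹) ∈ E1 := E1.mul_mem he (E1_normal hd (E1.inv_mem he))
        have h5 : α (e * (d * e⁻¹ * d⁻¹)) = α e * xx r * (α e)⁻¹ * (xx r)⁻¹ := by
          simp only [map_mul, map_inv, hd']; group
        have h6 := hb _ h4 (by rw [h5]; exact h3)
        by_cases h7 : e * (d * e⁻¹ * d⁻¹) = 1
        · left
          rw [h7, map_one] at h5
          calc α e * xx r * (α e)⁻¹ = α e * xx r * (α e)⁻¹ * (xx r)⁻¹ * xx r := by group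
            _ = xx r := by rw [← h5, one_mul]
        · right
          have h8 := h6 h7
          rw [h8, hα] at h5
          have h9 := commC (E1_le_C hrE)
          calc α e * xx r * (α e)⁻¹ = α e * xx r * (α e)⁻¹ * (xx r)⁻¹ * xx r := by group
            _ = xx r * z := by rw [← h5, h9])
      have hCl : α e ∈ Cl z := map_Cl α (EC he he1)
      obtain ⟨p, hp⟩ := fix_of_Cl hCl
      rw [h2] at hp
      rcases mem_of_fix hf hw hp with h3 | h3
      · exfalso
        rw [← h2] at h3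
        exact hez (hb e he h3 he1)
      · rw [h2]; exact h3
    refine ⟨h1, ?_⟩
    have h2 : E1.map α.toMonoidHom ≤ E2 := by
      rintro _ ⟨e, he, rfl⟩
      exact h1 e he
    have h3 : Nat.card (E1.map α.toMonoidHom) = 16 := by
      rw [← card_E1]
      exact (Nat.card_congr (E1.equivMapOfInjective α.toMonoidHom α.injective).toEquiv).symm
    have h4 : Nat.card E2 ≤ 16 := by
      classical
      have h5 : (E2 : Set M24) = ((LE2.toFinset.image ev : Finset M24) : Set M24) := by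
        ext x
        rw [SetLike.mem_coe, mem_E2, Finset.mem_coe, Finset.mem_image]
        constructor
        · rintro ⟨w, hw, rfl⟩; exact ⟨w, List.mem_toFinset.2 hw, rfl⟩
        · rintro ⟨w, hw, rfl⟩; exact ⟨w, List.mem_toFinset.1 hw, rfl⟩
      have h6 : Nat.card E2 = (E2 : Set M24).ncard := rfl
      rw [h6, h5, Set.ncard_coe_finset]
      exact Finset.card_image_le.trans (by decide)
    have h5 : E1.map α.toMonoidHom = E2 := Subgroup.eq_of_le_of_card_ge h2 (by rw [h3]; exact h4)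
    intro f hf
    rw [← h5] at hf
    exact hf

theorem c_comm : weqb [12, 0, 13, 6] [6, 12, 0, 13] = true := by decide +kernel

theorem c_move : (LE2.all fun w => wneb ([12, 0, 13] ++ [8]) (w ++ [12, 0, 13])) = true := by decide +kernel

/-- an automorphism fixing `z` normalises `E1` -/
theorem map_E1' (hα : α z = z) : ∀ e ∈ E1, α e ∈ E1 := by
  rcases map_E1 hα with h | ⟨h, h'⟩
  · exact h
  · exfalso
    -- `g = y₂` normalises `E1` and `z ^ g = X14`
    have hg : xx 14 ∈ N := xx_mem_N (Or.inr (Or.inl rfl))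
    have hgz : xx 14 * z * (xx 14)⁻¹ = xx 2 := by
      have h1 := conj_of_weq (c := [14]) (r := [3]) (w := [2]) (by decide +kernel)
      simpa only [ev_singleton, z_eq] using h1
    have hgE : ∀ n ∈ N, ∀ f ∈ E2, α n * f * (α n)⁻¹ ∈ E2 := by
      intro n hn f hf
      obtain ⟨e, he, rfl⟩ := h' f hf
      rw [← map_mul, ← map_inv, ← map_mul]
      exact h _ (N_conj hn he)
    have hv : α (xx 2) ∈ E2 := h _ x14_mem
    obtain ⟨c, hc, hc'⟩ := E2_trans hv (fun e => x14_ne ((map_eq_one_iff α α.injective).1 e))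
      (fun e => z_ne_x14 (α.injective (by rw [hα]; exact e.symm)))
    set k := c⁻¹ * α (xx 14) with hk
    have hkE : ∀ f ∈ E2, k * f * k⁻¹ ∈ E2 := by
      intro f hf
      have h1 := E2_normal (C.inv_mem hc) (hgE _ hg f hf)
      have e1 : k * f * k⁻¹ = c⁻¹ * (α (xx 14) * f * (α (xx 14))⁻¹) * c⁻¹⁻¹ := by rw [hk]; group
      rw [e1]; exact h1
    have hkE' : ∀ f ∈ E2, k⁻¹ * f * k ∈ E2 := by
      intro f hf
      have h1 : α (xx 14)⁻¹ * (c * f * c⁻¹) * (α (xx 14)⁻¹)⁻¹ ∈ E2 := hgE _ (N.inv_mem hg) _ (E2_normal hc hf)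
      have e1 : k⁻¹ * f * k = α (xx 14)⁻¹ * (c * f * c⁻¹) * (α (xx 14)⁻¹)⁻¹ := by
        rw [hk, map_inv]; group
      rw [e1]; exact h1
    have hkz : k * z * k⁻¹ = xx 6 := by
      have e1 : k * z * k⁻¹ = c⁻¹ * (α (xx 14) * z * (α (xx 14))⁻¹) * c := by rw [hk]; group
      have e2 : α (xx 14) * z * (α (xx 14))⁻¹ = α (xx 2) := by
        rw [← hgz, map_mul, map_mul, map_inv, hα]
      rw [e1, e2, ← hc']; group
    -- `c''` centralises `X25` and moves `X35` out of `E2`
    set d := ev [12, 0, 13] with hd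
    have hd6 : d * xx 6 = xx 6 * d := by
      have h1 := weq c_comm
      have h2 : ev [12, 0, 13, 6] = d * xx 6 := by
        rw [show [12, 0, 13, 6] = [12, 0, 13] ++ [6] from rfl, ev_append, ev_singleton]
      have h3 : ev [6, 12, 0, 13] = xx 6 * d := ev_cons _ _
      rw [← h2, ← h3, h1]
    have hdC : k⁻¹ * d * k ∈ C := by
      rw [mem_C]
      have e1 : z = k⁻¹ * xx 6 * k := by rw [← hkz]; group
      calc k⁻¹ * d * k * z = k⁻¹ * d * k * (k⁻¹ * xx 6 * k) := by rw [← e1]
        _ = k⁻¹ * (d * xx 6) * k := by group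
        _ = k⁻¹ * xx 6 * k * (k⁻¹ * d * k) := by rw [hd6]; group
        _ = z * (k⁻¹ * d * k) := by rw [← e1]
    have h8 : d * xx 8 * d⁻¹ ∈ E2 := by
      have h1 := hkE _ (E2_normal hdC (hkE' _ (xx_mem (rs := [3, 6, 8, 9]) (r := 8) (by decide))))
      have e1 : k * (k⁻¹ * d * k * (k⁻¹ * xx 8 * k) * (k⁻¹ * d * k)⁻¹) * k⁻¹ = d * xx 8 * d⁻¹ := by group
      rwa [e1] at h1
    obtain ⟨w, hw, h9⟩ := mem_E2.1 h8
    apply ne_of_wneb (List.all_eq_true.1 c_move w hw)
    rw [ev_append, ev_append, ev_singleton, ← h9, ← hd]; group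

/-! ### Adjusting on `E1` -/

theorem tB_ok : (tB.all fun e => weqb (e.2 ++ [1]) (e.1 ++ e.2) && weqb (e.2 ++ [2]) ([2] ++ e.2) &&
    weqb (e.2 ++ [3]) ([3] ++ e.2)) = true := by decide +kernel

theorem tC_ok : (tC.all fun e => weqb (e.2 ++ [0]) (e.1 ++ e.2) && weqb (e.2 ++ [1]) ([1] ++ e.2) &&
    weqb (e.2 ++ [2]) ([2] ++ e.2) && weqb (e.2 ++ [3]) ([3] ++ e.2)) = true := by decide +kernel

theorem tB_all : ∀ w ∈ LE1, (w.all fun k => Nat.beq k 2 || Nat.beq k 3) = true ∨ ∃ e ∈ tB, e.1 = w := by decide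

theorem tC_all : ∀ w ∈ LE1, (w.all fun k => Nat.beq k 1 || Nat.beq k 2 || Nat.beq k 3) = true ∨
    ∃ e ∈ tC, e.1 = w := by decide

/-- `α` after the conjugation by `k⁻¹` -/
theorem adj (k x : M24) : ((MulAut.conj k)⁻¹ * α) x = k⁻¹ * α x * k := KFacts.OutQ.conj_inv_mul_apply k α x

/-- a word in letters fixed by `α` is fixed by `α` -/
theorem fix_word {w : List ℕ} (h : ∀ k ∈ w, α (xx k) = xx k) : α (ev w) = ev w := by
  have h1 : ev w ∈ (α.toMonoidHom.eqLocus (MonoidHom.id M24)) := ev_mem fun k hk => h k hk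
  exact h1

theorem adj2 (hα : α z = z) : ∃ k : M24, ((MulAut.conj k)⁻¹ * α) z = z ∧ ((MulAut.conj k)⁻¹ * α) (xx 2) = xx 2 := by
  obtain ⟨c, hc, hc'⟩ := E1_trans (map_E1' hα _ x14_mem) (fun e => x14_ne ((map_eq_one_iff α α.injective).1 e))
      (fun e => z_ne_x14 (α.injective (by rw [hα]; exact e.symm)))
  refine ⟨c, ?_, ?_⟩
  · rw [adj, hα, mul_assoc, ← commC hc]; group
  · rw [adj, ← hc']; group

/-- the conjugate of a letter -/
theorem conj1 {c : List ℕ} {r : ℕ} {w : List ℕ} (h : weqb (c ++ [r]) (w ++ c) = true) :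
    (ev c)⁻¹ * ev w * ev c = xx r := by
  have h1 := conj_of_weq h
  rw [ev_singleton] at h1
  rw [← h1]; group

theorem adj1 (hα : α z = z) (h2 : α (xx 2) = xx 2) : ∃ k : M24, ((MulAut.conj k)⁻¹ * α) z = z ∧
    ((MulAut.conj k)⁻¹ * α) (xx 2) = xx 2 ∧ ((MulAut.conj k)⁻¹ * α) (xx 1) = xx 1 := by
  obtain ⟨w, hw, h3⟩ := mem_E1.1 (map_E1' hα (xx 1) (xx_mem (by decide)))
  rcases tB_all w hw with h | ⟨e, he, rfl⟩
  · exfalso
    have h4 : α (ev w) = ev w := by
      apply fix_word
      intro k hk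
      have h5 := List.all_eq_true.1 h k hk
      rw [Bool.or_eq_true, Nat.beq_eq, Nat.beq_eq] at h5
      rcases h5 with rfl | rfl
      · exact h2
      · exact hα
    have h6 : xx 1 = ev w := α.injective (by rw [h4, h3])
    have h7 : ∀ w ∈ LE1, (w.all fun k => Nat.beq k 2 || Nat.beq k 3) = true → wneb [1] w = true := by
      decide +kernel
    apply ne_of_wneb (h7 w hw h)
    rw [ev_singleton, h6]
  · have h4 := List.all_eq_true.1 tB_ok e he
    rw [Bool.and_eq_true, Bool.and_eq_true] at h4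
    obtain ⟨⟨h5, h6⟩, h7⟩ := h4
    refine ⟨ev e.2, ?_, ?_, ?_⟩
    · rw [adj, hα]
      have := conj1 h7
      rwa [ev_singleton] at this
    · rw [adj, h2]
      have := conj1 h6
      rwa [ev_singleton] at this
    · rw [adj, h3]
      exact conj1 h5

theorem adj0 (hα : α z = z) (h2 : α (xx 2) = xx 2) (h1 : α (xx 1) = xx 1) : ∃ k : M24,
    ∀ r ∈ [0, 1, 2, 3], ((MulAut.conj k)⁻¹ * α) (xx r) = xx r := by
  obtain ⟨w, hw, h3⟩ := mem_E1.1 (map_E1' hα (xx 0) (xx_mem (by decide)))
  rcases tC_all w hw with h | ⟨e, he, rfl⟩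
  · exfalso
    have h4 : α (ev w) = ev w := by
      apply fix_word
      intro k hk
      have h5 := List.all_eq_true.1 h k hk
      rw [Bool.or_eq_true, Bool.or_eq_true, Nat.beq_eq, Nat.beq_eq, Nat.beq_eq] at h5
      rcases h5 with (rfl | rfl) | rfl
      · exact h1
      · exact h2
      · exact hα
    have h6 : xx 0 = ev w := α.injective (by rw [h4, h3])
    have h7 : ∀ w ∈ LE1, (w.all fun k => Nat.beq k 1 || Nat.beq k 2 || Nat.beq k 3) = true →
        wneb [0] w = true := by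
      decide +kernel
    apply ne_of_wneb (h7 w hw h)
    rw [ev_singleton, h6]
  · have h4 := List.all_eq_true.1 tC_ok e he
    rw [Bool.and_eq_true, Bool.and_eq_true, Bool.and_eq_true] at h4
    obtain ⟨⟨⟨h5, h6⟩, h7⟩, h8⟩ := h4
    refine ⟨ev e.2, ?_⟩
    intro r hr
    have hr' : r = 0 ∨ r = 1 ∨ r = 2 ∨ r = 3 := by revert r; decide
    rcases hr' with rfl | rfl | rfl | rfl
    · rw [adj, h3]
      exact conj1 h5
    · rw [adj, h1]
      have := conj1 h6
      rwa [ev_singleton] at this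
    · rw [adj, h2]
      have := conj1 h7
      rwa [ev_singleton] at this
    · rw [adj, ← z_eq, hα, z_eq]
      have := conj1 h8
      rwa [ev_singleton] at this

/-! ### The action on `Q` -/

theorem letters_fix : ([6, 8, 9].all fun k => Nat.beq (prodW gx [k, k]) idP && wneb [k] [] &&
    (List.range 24).any fun i => Nat.beq (papp (prodW gx [k]) i) i) = true := by decide +kernel

theorem mod_letter (h : ∀ r ∈ [0, 1, 2, 3], α (xx r) = xx r) {k : ℕ} (hk : k ∈ [6, 8, 9]) :
    α (xx k) = xx k ∨ α (xx k) = xx k * z := by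
  have hα : α z = z := h 3 (by decide)
  have hE : ∀ e ∈ E1, α e = e := by
    intro e he
    obtain ⟨w, hw, rfl⟩ := mem_E1.1 he
    apply fix_word
    intro r hr
    have h1 : ∀ w ∈ LE1, ∀ k ∈ w, k ∈ [0, 1, 2, 3] := by decide
    exact h r (h1 w hw r hr)
  have hkC : xx k ∈ C := E2_le_C (xx_mem (by revert k; decide))
  have h1 : (xx k)⁻¹ * α (xx k) ∈ E1 := by
    apply mem_E1_of_comm
    intro r hr
    have hrE : xx r ∈ E1 := xx_mem hr
    have h2 := hE _ (E1_normal hkC hrE)
    rw [map_mul, map_mul, map_inv, h r hr] at h2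
    calc (xx k)⁻¹ * α (xx k) * xx r = (xx k)⁻¹ * (α (xx k) * xx r * (α (xx k))⁻¹) * α (xx k) := by group
      _ = xx r * ((xx k)⁻¹ * α (xx k)) := by rw [h2]; group
  obtain ⟨w, hw, h2⟩ := mem_E1.1 h1
  have h3 : α (xx k) = ev ([k] ++ w) := by
    rw [ev_append, ev_singleton, ← h2]; group
  obtain ⟨p, hp⟩ := fix_of_Cl (map_Cl α (xx_Cl (List.all_eq_true.1 letters_fix k hk)))
  rw [h3] at hp
  have hf0 : ∀ k ∈ [6, 8, 9], [k] ∈ LF := by decide
  have hf : [k] ∈ LF := hf0 k hk
  rcases words_of_fix hf hw hp with h4 | rfl | rfl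
  · exact absurd h4 (by simp)
  · left
    rw [h3, List.append_nil, ev_singleton]
  · right
    rw [h3, ev_append, ev_singleton, ev_singleton, z_eq]

theorem mod_Q (h : ∀ r ∈ [0, 1, 2, 3], α (xx r) = xx r) {q : M24} (hq : q ∈ Q) : α q = q ∨ α q = q * z := by
  have hα : α z = z := h 3 (by decide)
  have key : q ∈ Q ∧ (α q = q ∨ α q = q * z) := by
    have hq' := hq
    unfold Q cl at hq
    induction hq using Subgroup.closure_induction with
    | mem x hx =>
      obtain ⟨r, hr, rfl⟩ := hx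
      refine ⟨hq', ?_⟩
      have h1 : r ∈ [0, 1, 2, 3] ∨ r ∈ [6, 8, 9] := by
        clear hq'
        revert r; decide
      rcases h1 with h1 | h1
      · exact Or.inl (h r h1)
      · exact mod_letter h h1
    | one => exact ⟨Q.one_mem, Or.inl (map_one α)⟩
    | mul x y hx hy ihx ihy =>
      have hxQ : x ∈ Q := hx
      have hyQ : y ∈ Q := hy
      obtain ⟨-, h1⟩ := ihx hxQ
      obtain ⟨-, h2⟩ := ihy hyQ
      refine ⟨hq', ?_⟩
      have hyz := commC (Q_le_C hyQ)
      rw [map_mul]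
      rcases h1 with h1 | h1 <;> rcases h2 with h2 | h2 <;> rw [h1, h2]
      · left; rfl
      · right; rw [mul_assoc]
      · right
        rw [mul_assoc, ← hyz, mul_assoc]
      · left
        calc x * z * (y * z) = x * (z * y) * z := by group
          _ = x * y * (z * z) := by rw [← hyz]; group
          _ = x * y := by rw [zz, mul_one]
    | inv x hx ih =>
      have hxQ : x ∈ Q := hx
      obtain ⟨-, h1⟩ := ih hxQ
      refine ⟨hq', ?_⟩
      rw [map_inv]
      rcases h1 with h1 | h1 <;> rw [h1]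
      · left; rfl
      · right
        rw [commC (Q_le_C hxQ), mul_inv_rev, z_inv]
  exact key.2

/-! ### Generation -/

/-- the word for the first standard generator -/
def wX : List ℕ := [7, 4, 10, 13, 4, 10, 11, 10, 12, 4, 10, 4, 7]
/-- the word for the second standard generator -/
def wY : List ℕ := [6, 10, 13, 11, 10, 12, 10, 11, 13, 10, 9, 4, 0]

theorem pt_eq : ∀ i < 24, J4.M24Hom.pt i = pt i := by decide +kernel

theorem idx_eq : ∀ p : GolayPt, SporadicA.GolayWalk.idx p = idx p := by decide +kernel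

theorem eq_of_table {x : M24} {t w : List ℕ} (hx : ∀ p, (x : Equiv.Perm GolayPt) p = J4.M24Hom.fn t p)
    (h : ((List.range 24).all fun i => Nat.beq (papp (prodW gx w) i) (t.getD i 0) && Nat.blt (t.getD i 0) 24) = true) :
    x = ev w := by
  apply Subtype.ext
  apply Equiv.ext
  intro p
  have h1 := List.all_eq_true.1 h (idx p) (List.mem_range.2 (idx_lt p))
  rw [Bool.and_eq_true, Nat.beq_eq, Nat.blt_eq] at h1
  have h2 : ev w • p = pt (papp (prodW gx w) (idx p)) := by
    conv_lhs => rw [← pt_idx p]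
    exact ev_smul w (idx_lt p)
  rw [hx]
  unfold J4.M24Hom.fn
  rw [idx_eq, pt_eq _ h1.2, ← h1.1]
  exact h2.symm

theorem XM_eq : J4.M24Hom.XM = ev wX := eq_of_table (t := J4.M24Hom.tx) (fun _ => rfl) (by decide +kernel)

theorem YM_eq : J4.M24Hom.YM = ev wY := eq_of_table (t := J4.M24Hom.ty) (fun _ => rfl) (by decide +kernel)

theorem words_lt : ∀ k ∈ wX ++ wY, k < 12 ∨ k = 12 ∨ k = 13 := by decide

/-- a subgroup containing `C(z)` and `y₁` is `M24` -/
theorem gen_top {H : Subgroup M24} (h : ∀ c < 12, xx c ∈ H) (h12 : xx 12 ∈ H) : H = ⊤ := by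
  have h13 : xx 13 ∈ H := by
    have h1 : xx 13 = (xx 12)⁻¹ := by
      rw [eq_inv_iff_mul_eq_one]
      have := y1_inv
      rw [mul_eq_one_iff_inv_eq] at this
      rw [← this, inv_mul_cancel]
    rw [h1]; exact H.inv_mem h12
  have h2 : ∀ k ∈ wX ++ wY, xx k ∈ H := by
    intro k hk
    rcases words_lt k hk with h1 | rfl | rfl
    · exact h k h1
    · exact h12
    · exact h13
  rw [eq_top_iff, ← J4.M24Hom.closure_XYM, Subgroup.closure_le]
  rintro x (rfl | rfl)
  · rw [XM_eq]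
    exact ev_mem fun k hk => h2 k (List.mem_append_left _ hk)
  · rw [YM_eq]
    exact ev_mem fun k hk => h2 k (List.mem_append_right _ hk)

/-! ### The theorem -/

theorem hV_ok : (LV.all fun v => LE1.all fun e =>
    (v == [] && (e == [] || e == [3])) || (v == [6] && (e == [] || e == [3])) ||
    ([1, 2, 3, 4, 5, 6, 7, 8, 9, 11].any fun c => weqb [c, 3] [3, c] && weqb [c, 6] [6, c] &&
      wneb (v ++ e ++ [c]) (c :: (v ++ e)))) = true := by decide +kernel

theorem hV {s : M24} (hs : ∀ c : M24, c * z = z * c → c * xx 6 = xx 6 * c → s * c = c * s) :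
    s = 1 ∨ s = z ∨ s = xx 6 ∨ s = z * xx 6 := by
  have h0 : ∀ c, weqb [c, 3] [3, c] = true → weqb [c, 6] [6, c] = true → s * xx c = xx c * s := by
    intro c h1 h2
    have h3 := weq h1
    have h4 := weq h2
    simp only [ev_cons, ev_nil, mul_one] at h3 h4
    exact hs _ h3 h4
  have h1 : ∀ r ∈ [1, 2, 3], weqb [r, 3] [3, r] = true ∧ weqb [r, 6] [6, r] = true := by decide +kernel
  obtain ⟨v, hv, e, he, rfl⟩ := cent_A (q := s) fun r hr => h0 r (h1 r hr).1 (h1 r hr).2
  have h2 := List.all_eq_true.1 (List.all_eq_true.1 hV_ok v hv) e he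
  rw [Bool.or_eq_true, Bool.or_eq_true, Bool.and_eq_true, Bool.and_eq_true, Bool.or_eq_true, beq_iff_eq,
    beq_iff_eq, beq_iff_eq, beq_iff_eq] at h2
  rcases h2 with (⟨rfl, rfl | rfl⟩ | ⟨rfl, rfl | rfl⟩) | h2
  · exact Or.inl ev_nil
  · exact Or.inr (Or.inl (ev_singleton 3))
  · exact Or.inr (Or.inr (Or.inl (ev_singleton 6)))
  · refine Or.inr (Or.inr (Or.inr ?_))
    have h3 := weq (u := [6, 3]) (v := [3, 6]) (by decide +kernel)
    show ev [6, 3] = _
    rw [h3, ev_cons, ev_singleton, z_eq]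
  · exfalso
    obtain ⟨c, -, h3⟩ := List.any_eq_true.1 h2
    rw [Bool.and_eq_true, Bool.and_eq_true] at h3
    obtain ⟨⟨h4, h5⟩, h6⟩ := h3
    apply ne_of_wneb h6
    rw [ev_append, ev_singleton, ev_cons]
    exact h0 c h4 h5

theorem card_Q_ne : Nat.card Q ≠ 2 := by
  intro h
  have h1 := Subgroup.card_dvd_of_le E1_le_Q
  rw [card_E1, h] at h1
  omega

theorem commutator_C : commutator C = ⊤ := by
  apply Subgroup.map_injective C.subtype_injective
  rw [Subgroup.map_subtype_commutator, C_perfect]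
  exact C.range_subtype.symm.trans (MonoidHom.range_eq_map _)

/-- an automorphism trivial on `E1` is inner -/
theorem exists_conj_of_fix (h : ∀ r ∈ [0, 1, 2, 3], α (xx r) = xx r) : ∃ k, α = MulAut.conj k := by
  have hα : α z = z := h 3 (by decide)
  refine KFacts.OutQ.exists_conj (z' := xx 6) (n := xx 12) (τ := xx 0) z_ne zz (xx_sq (by norm_num)) ?_ ?_ ?_ ?_
    ?_ ?_ (fun s hs => hV hs) ?_ Q (LargeExtra.Nine.ToCent.isExtraspecial_Q large card_Q_ne) z_mem_Q
    (fun q hq => commC (Q_le_C hq)) (fun c hc q hq => Q_normal (mem_C.2 hc) hq)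
    (fun c hc => cent_Q fun r hr => hc _ (xx_mem hr)) ?_ α hα (c₀ := 1) (by rw [one_mul, mul_one]) ?_
  · have := weq (u := [3, 6]) (v := [6, 3]) (by decide +kernel)
    simpa only [ev_cons, ev_nil, mul_one, z_eq] using this
  · have := ne_of_wneb (u := [3]) (v := [6]) (by decide +kernel)
    simpa only [ev_singleton, z_eq] using this
  · have := conj_of_weq (c := [12]) (r := [3]) (w := [6]) (by decide +kernel)
    simpa only [ev_singleton, z_eq] using this
  · have := conj_of_weq (c := [12]) (r := [6]) (w := [3, 6]) (by decide +kernel)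
    simpa only [ev_cons, ev_nil, mul_one, z_eq] using this
  · have := weq (u := [0, 3]) (v := [3, 0]) (by decide +kernel)
    simpa only [ev_cons, ev_nil, mul_one, z_eq] using this
  · have := conj_of_weq (c := [0]) (r := [6]) (w := [3, 6]) (by decide +kernel)
    simpa only [ev_cons, ev_nil, mul_one, z_eq] using this
  · apply gen_top
    · intro c hc
      exact Subgroup.subset_closure (Or.inl (mem_C.1 (xx_mem_C hc)))
    · exact Subgroup.subset_closure (Or.inr rfl)
  · exact KFacts.OutTwo.index_ne_two commutator_C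
  · intro q hq
    rw [one_mul, inv_one, mul_one]
    exact mod_Q h hq

/-- **Every automorphism of `M24` is inner.** -/
theorem exists_conj (α : MulAut M24) : ∃ k, α = MulAut.conj k := by
  obtain ⟨g, hg⟩ := map_Cl α (u := z) ⟨1, by rw [one_mul, inv_one, mul_one]⟩
  set β := (MulAut.conj g)⁻¹ * α with hβ
  have hβz : β z = z := by rw [hβ, adj, ← hg]; group
  obtain ⟨k2, h2, h2'⟩ := adj2 hβz
  obtain ⟨k1, h1, h1', h1''⟩ := adj1 h2 h2'
  obtain ⟨k0, h0⟩ := adj0 h1 h1' h1''
  obtain ⟨l, hl⟩ := exists_conj_of_fix h0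
  refine ⟨g * (k2 * (k1 * (k0 * l))), ?_⟩
  rw [map_mul, map_mul, map_mul, map_mul, ← hl, hβ]
  simp only [mul_inv_cancel_left]

end Cfsg.Agent.KFacts.M24Two.Out
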