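import Cfsg.Agent.KFacts.M24Two.Octad
import Cfsg.Agent.KFacts.OutTwo
import Cfsg.Agent.LargeExtra.Nine.ToCent

/-!
# `Q = O₂(C(z))` for the central involution `z` of `M24`

`Q = cl [0, 1, 2, 3, 6, 8, 9] = E1 E2` is extraspecial: `large : Large Q z`. `mem_words`: an element of `C(z)` centralising
`E1` modulo `⟨z⟩` is `ev (f ++ e)`, `f ∈ LF`, `e ∈ LE1`; if it has a fixed point then `f = []` or `e ∈ {[], [3]}`
(`words_of_fix`).
-/

set_option autoImplicit false

namespace Cfsg.Agent.KFacts.M24Two.QGroup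

open Cfsg Cfsg.Agent.SporadicA.GolayBase Cfsg.Agent.SporadicA.GolayPerm
open Cfsg.Agent.SporadicStructure.M24El Cfsg.Agent.KFacts.M24Two.CentZ Cfsg.Agent.KFacts.M24Two.Octad
open Cfsg.Agent.KFacts.M24Pair.Letters Cfsg.Agent.OddHalf.M24 Cfsg.Agent.Co2Type.Quad
open scoped Pointwise

/-! ### Data -/

/-- `(u, k)` with `k` centralising `X14, X15`, `k X13 k⁻¹ = u` -/
def tB : List (List ℕ × List ℕ) := [([1], []), ([1, 2], [7]), ([1, 3], [8]), ([0, 1], [10]), ([1, 2, 3], [8,
  7]), ([0, 1, 2], [10, 7]), ([0, 1, 3], [10, 8]), ([0], [4, 10]), ([0, 1, 2, 3], [10, 8, 7]), ([0, 2], [4,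
  10, 7]), ([0, 3], [4, 10, 8]), ([0, 2, 3], [4, 10, 8, 7])]

/-- `(u, k)` with `k` centralising `X13, X14, X15`, `k X12 k⁻¹ = u` -/
def tC : List (List ℕ × List ℕ) := [([0], []), ([0, 1], [4]), ([0, 2], [5]), ([0, 3], [6]), ([0, 1, 2], [5,
  4]), ([0, 1, 3], [6, 4]), ([0, 2, 3], [6, 5]), ([0, 1, 2, 3], [6, 5, 4])]

/-- the words in the letters `X25, X35, X45` -/
def LF : List (List ℕ) := [[], [6], [8], [9], [6, 8], [6, 9], [8, 9], [6, 8, 9]]

/-! ### The group `Q` -/

/-- `Q = O₂(C(z))` -/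
noncomputable def Q : Subgroup M24 := cl [0, 1, 2, 3, 6, 8, 9]

theorem E1_le_Q : E1 ≤ Q := cl_le fun r hr => xx_mem (by revert r; decide)

theorem E2_le_Q : E2 ≤ Q := cl_le fun r hr => xx_mem (by revert r; decide)

theorem Q_le_C : Q ≤ C := cl_le fun r hr => xx_mem_C (by revert r; decide)

theorem z_mem_Q : z ∈ Q := E1_le_Q z_mem_E1

theorem z_mem_C : z ∈ C := Q_le_C z_mem_Q

theorem Q_normal {c : M24} (hc : c ∈ C) {x : M24} (hx : x ∈ Q) : c * x * c⁻¹ ∈ Q := by
  refine conj_mem_cl (rs := [0, 1, 2, 3, 6, 8, 9]) (fun r hr => ?_) hx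
  have h : r ∈ [0, 1, 2, 3] ∨ r ∈ [3, 6, 8, 9] := by revert r; decide
  rcases h with h | h
  · exact E1_le_Q (E1_normal hc (xx_mem h))
  · exact E2_le_Q (E2_normal hc (xx_mem h))

theorem z_inv : z⁻¹ = z := inv_eq_of_mul_eq_one_left zz

theorem commC {x : M24} (hx : x ∈ C) : x * z = z * x := mem_C.1 hx

/-- the elements commuting with `a` modulo `⟨z⟩` -/
noncomputable def cmod (a : M24) (ha : a ∈ C) : Subgroup M24 where
  carrier := {x | x ∈ C ∧ (x * a = a * x ∨ x * a = a * x * z)}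
  one_mem' := ⟨C.one_mem, Or.inl (by rw [one_mul, mul_one])⟩
  mul_mem' := by
    rintro x y ⟨hx, h1⟩ ⟨hy, h2⟩
    refine ⟨C.mul_mem hx hy, ?_⟩
    have hyz := commC hy
    have hxz := commC hx
    rcases h1 with h1 | h1 <;> rcases h2 with h2 | h2
    · left; rw [mul_assoc, h2, ← mul_assoc, h1, mul_assoc]
    · right
      calc x * y * a = x * (y * a) := by group
        _ = x * a * y * z := by rw [h2]; group
        _ = a * (x * y) * z := by rw [h1]; group
    · right
      calc x * y * a = x * (y * a) := by group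
        _ = x * a * y := by rw [h2]; group
        _ = a * x * (z * y) := by rw [h1]; group
        _ = a * (x * y) * z := by rw [← hyz]; group
    · left
      calc x * y * a = x * (y * a) := by group
        _ = x * a * y * z := by rw [h2]; group
        _ = a * x * (z * y) * z := by rw [h1]; group
        _ = a * (x * y) * (z * z) := by rw [← hyz]; group
        _ = _ := by rw [zz, mul_one]
  inv_mem' := by
    rintro x ⟨hx, h1⟩
    refine ⟨C.inv_mem hx, ?_⟩
    have haz := commC ha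
    have hxz := commC hx
    rcases h1 with h1 | h1
    · left
      rw [inv_mul_eq_iff_eq_mul, ← mul_assoc, h1, mul_inv_cancel_right]
    · right
      have h3 : x⁻¹ * z = z * x⁻¹ := commC (C.inv_mem hx)
      calc x⁻¹ * a = x⁻¹ * (a * x * z) * z⁻¹ * x⁻¹ := by group
        _ = x⁻¹ * (x * a) * z * x⁻¹ := by rw [← h1, z_inv]
        _ = a * (z * x⁻¹) := by group
        _ = a * x⁻¹ * z := by rw [← h3]; group

theorem Q_comm {x y : M24} (hx : x ∈ Q) (hy : y ∈ Q) : x * y = y * x ∨ x * y = y * x * z := by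
  have h0 : ∀ r ∈ [0, 1, 2, 3, 6, 8, 9], ∀ s ∈ [0, 1, 2, 3, 6, 8, 9],
      weqb [r, s] [s, r] = true ∨ weqb [r, s] [s, r, 3] = true := by decide +kernel
  have h1 : ∀ s ∈ [0, 1, 2, 3, 6, 8, 9], ∀ a ∈ Q, a * xx s = xx s * a ∨ a * xx s = xx s * a * z := by
    intro s hs a ha
    have hsC : xx s ∈ C := Q_le_C (xx_mem hs)
    have h2 : Q ≤ cmod (xx s) hsC := by
      apply cl_le
      intro r hr
      refine ⟨Q_le_C (xx_mem hr), ?_⟩
      rcases h0 r hr s hs with h | h
      · left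
        have h3 := weq h
        simpa only [ev_cons, ev_nil, mul_one] using h3
      · right
        have h3 := weq h
        simp only [ev_cons, ev_nil, mul_one] at h3
        rw [h3, mul_assoc, z_eq]
    exact (h2 ha).2
  have hxC := Q_le_C hx
  have h2 : Q ≤ cmod x hxC := by
    apply cl_le
    intro s hs
    refine ⟨Q_le_C (xx_mem hs), ?_⟩
    rcases h1 s hs x hx with h | h
    · left; rw [h]
    · right
      have hsz : xx s * x * z = z * (xx s * x) := commC (C.mul_mem (Q_le_C (xx_mem hs)) hxC)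
      rw [h, mul_assoc, zz, mul_one]
  rcases (h2 hy).2 with h | h
  · left; rw [h]
  · right; rw [h, mul_assoc, zz, mul_one]

theorem Q_sq {x : M24} (hx : x ∈ Q) : x * x = 1 ∨ x * x = z := by
  have h : x ∈ Q ∧ (x * x = 1 ∨ x * x = z) := by
    have hx' := hx
    unfold Q cl at hx
    induction hx using Subgroup.closure_induction with
    | mem x h =>
      obtain ⟨r, hr, rfl⟩ := h
      have h12 : ∀ r ∈ [0, 1, 2, 3, 6, 8, 9], r < 12 := by decide
      exact ⟨hx', Or.inl (xx_sq (h12 r hr))⟩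
    | one => exact ⟨Q.one_mem, Or.inl (mul_one 1)⟩
    | mul x y hx hy ihx ihy =>
      have hxQ : x ∈ Q := hx
      have hyQ : y ∈ Q := hy
      obtain ⟨-, h1⟩ := ihx hxQ
      obtain ⟨-, h2⟩ := ihy hyQ
      refine ⟨hx', ?_⟩
      have hz : y * y * z = z * (y * y) := commC (C.mul_mem (Q_le_C hyQ) (Q_le_C hyQ))
      have h3 : x * y * (x * y) = x * x * (y * y) ∨ x * y * (x * y) = x * x * (y * y) * z := by
        rcases Q_comm hyQ hxQ with h | h
        · left
          calc x * y * (x * y) = x * (y * x) * y := by group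
            _ = x * x * (y * y) := by rw [h]; group
        · right
          calc x * y * (x * y) = x * (y * x) * y := by group
            _ = x * x * y * (z * y) := by rw [h]; group
            _ = x * x * (y * y) * z := by rw [← commC (Q_le_C hyQ)]; group
      rcases h3 with h3 | h3 <;> rcases h1 with h1 | h1 <;> rcases h2 with h2 | h2 <;>
        rw [h3, h1, h2] <;> simp only [one_mul, mul_one, zz, true_or, or_true]
    | inv x hx ih =>
      have hxQ : x ∈ Q := hx
      obtain ⟨-, h1⟩ := ih hxQ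
      refine ⟨hx', ?_⟩
      rw [← mul_inv_rev]
      rcases h1 with h1 | h1 <;> rw [h1]
      · left; exact inv_one
      · right; exact z_inv
  exact h.2

theorem cent_Q {x : M24} (h : ∀ r ∈ [0, 1, 2, 3, 6, 8, 9], x * xx r = xx r * x) : x = 1 ∨ x = z := by
  have h1 : x ∈ E1 := mem_E1_of_comm fun r hr => h r (by revert r; decide)
  obtain ⟨w, hw, rfl⟩ := mem_E1.1 h1
  have h2 : ∀ w ∈ LE1, w = [] ∨ w = [3] ∨ wneb (w ++ [6]) (6 :: w) = true ∨ wneb (w ++ [8]) (8 :: w) = true ∨
      wneb (w ++ [9]) (9 :: w) = true := by decide +kernel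
  rcases h2 w hw with rfl | rfl | h2 | h2 | h2
  · exact Or.inl ev_nil
  · exact Or.inr (ev_singleton 3)
  all_goals
    exfalso
    have h3 := ne_of_wneb h2
    rw [ev_append, ev_singleton, ev_cons] at h3
  · exact h3 (h 6 (by decide))
  · exact h3 (h 8 (by decide))
  · exact h3 (h 9 (by decide))

/-- `Q` is large: extraspecial, normal in `C(z)`, self-centralising -/
theorem large : Large Q z where
  z_mem := z_mem_Q
  z_ne := z_ne
  z_sq := zz
  comm_z := fun x hx => commC (Q_le_C hx)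
  conj_mem := fun g hg x hx => Q_normal (mem_C.2 hg) hx
  sq := fun x hx => Q_sq hx
  comm := fun x hx y hy => Q_comm hx hy
  cent := fun x _ h => cent_Q fun r hr => h _ (xx_mem hr)
  self := fun g _ h => by
    rcases cent_Q (x := g) fun r hr => h _ (xx_mem hr) with h1 | h1
    · rw [h1]; exact Q.one_mem
    · rw [h1]; exact z_mem_Q

/-! ### Elements centralising `E1` modulo `⟨z⟩` -/

/-- the word in `X25, X35, X45` with given signs on `X12, X13, X14` -/
def Fw (a b c : Bool) : List ℕ := (cond a [6] []) ++ (cond b [8] []) ++ (cond c [9] [])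

/-- the sign -/
def sg (a : Bool) : List ℕ := cond a [3] []

theorem Fw_ok : ∀ a b c : Bool, (weqb (Fw a b c ++ [0]) (([0] ++ sg a) ++ Fw a b c) &&
    weqb (Fw a b c ++ [1]) (([1] ++ sg b) ++ Fw a b c) &&
    weqb (Fw a b c ++ [2]) (([2] ++ sg c) ++ Fw a b c) &&
    weqb (Fw a b c ++ [3]) ([3] ++ Fw a b c)) = true ∧ Fw a b c ∈ LF := by decide +kernel

theorem exists_sign {x y : M24} (h : x = y ∨ x = y * z) : ∃ a : Bool, x = y * ev (sg a) := by
  rcases h with h | h
  · exact ⟨false, by rw [h]; exact (mul_one y).symm⟩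
  · refine ⟨true, ?_⟩
    rw [h]
    show y * z = y * ev [3]
    rw [ev_singleton, z_eq]

theorem mem_words {q : M24} (hqC : q ∈ C) (h : ∀ r ∈ [0, 1, 2], q * xx r * q⁻¹ = xx r ∨ q * xx r * q⁻¹ = xx r * z) :
    ∃ f ∈ LF, ∃ e ∈ LE1, q = ev (f ++ e) := by
  obtain ⟨a, ha⟩ := exists_sign (h 0 (by decide))
  obtain ⟨b, hb⟩ := exists_sign (h 1 (by decide))
  obtain ⟨c, hc⟩ := exists_sign (h 2 (by decide))
  obtain ⟨h1, h2⟩ := Fw_ok a b c
  rw [Bool.and_eq_true, Bool.and_eq_true, Bool.and_eq_true] at h1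
  obtain ⟨⟨⟨h3, h4⟩, h5⟩, h6⟩ := h1
  have h3' := conj_of_weq h3
  have h4' := conj_of_weq h4
  have h5' := conj_of_weq h5
  have h6' := conj_of_weq h6
  rw [ev_append, ev_singleton, ← ha] at h3'
  rw [ev_append, ev_singleton, ← hb] at h4'
  rw [ev_append, ev_singleton, ← hc] at h5'
  rw [ev_singleton] at h6'
  set f := ev (Fw a b c) with hf
  have key : ∀ x : M24, f * x * f⁻¹ = q * x * q⁻¹ → f⁻¹ * q * x = x * (f⁻¹ * q) := by
    intro x hx
    calc f⁻¹ * q * x = f⁻¹ * (q * x * q⁻¹) * q := by group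
      _ = f⁻¹ * (f * x * f⁻¹) * q := by rw [hx]
      _ = x * (f⁻¹ * q) := by group
  have h7 : f⁻¹ * q ∈ E1 := by
    apply mem_E1_of_comm
    intro r hr
    have hr' : r = 0 ∨ r = 1 ∨ r = 2 ∨ r = 3 := by revert r; decide
    rcases hr' with rfl | rfl | rfl | rfl
    · exact key _ h3'
    · exact key _ h4'
    · exact key _ h5'
    · apply key
      rw [h6', ← z_eq, commC hqC, mul_inv_cancel_right]
  obtain ⟨e, he, h8⟩ := mem_E1.1 h7
  refine ⟨Fw a b c, h2, e, he, ?_⟩
  rw [ev_append, ← h8, ← hf, mul_inv_cancel_left]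

theorem words_fix : (LF.all fun f => LE1.all fun e => (f.isEmpty || e.isEmpty || (e == [3])) ||
    !((List.range 24).any fun i => Nat.beq (papp (prodW gx (f ++ e)) i) i)) = true := by decide +kernel

theorem LF_sub : ∀ f ∈ LF, ∀ k ∈ f, k ∈ [3, 6, 8, 9] := by decide

theorem words_of_fix {f e : List ℕ} (hf : f ∈ LF) (he : e ∈ LE1) {p : GolayPt} (hp : ev (f ++ e) • p = p) :
    f = [] ∨ e = [] ∨ e = [3] := by
  have h := List.all_eq_true.1 (List.all_eq_true.1 words_fix f hf) e he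
  rw [Bool.or_eq_true, Bool.or_eq_true, Bool.or_eq_true, Bool.not_eq_true', List.isEmpty_iff, List.isEmpty_iff,
    beq_iff_eq] at h
  rcases h with h | h
  · rwa [or_assoc] at h
  · exfalso
    rw [← Bool.not_eq_true] at h
    apply h
    rw [List.any_eq_true]
    refine ⟨idx p, List.mem_range.2 (idx_lt p), ?_⟩
    have h1 : ev (f ++ e) • pt (idx p) = pt (papp (prodW gx (f ++ e)) (idx p)) := ev_smul _ (idx_lt p)
    rw [pt_idx, hp] at h1
    have h2 := congrArg idx h1
    rw [idx_pt (papp_word_lt _ (idx_lt p))] at h2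
    rw [← h2]
    exact Nat.beq_refl _

/-- elements of `Q` with a fixed point are in `E1` or in `E2` -/
theorem mem_of_fix {f e : List ℕ} (hf : f ∈ LF) (he : e ∈ LE1) {p : GolayPt} (hp : ev (f ++ e) • p = p) :
    ev (f ++ e) ∈ E1 ∨ ev (f ++ e) ∈ E2 := by
  rcases words_of_fix hf he hp with rfl | rfl | rfl
  · left; exact mem_E1.2 ⟨e, he, rfl⟩
  · right
    rw [List.append_nil]
    exact ev_mem_cl (LF_sub f hf)
  · right
    rw [ev_append, ev_singleton]
    exact E2.mul_mem (ev_mem_cl (LF_sub f hf)) (xx_mem (by decide))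

end Cfsg.Agent.KFacts.M24Two.QGroup
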