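import Cfsg.Agent.KFacts.M24Two.QGroup
import Cfsg.Agent.KFacts.SheetOf
import Cfsg.Agent.SporadicA.M24Trans

/-!
# A Sylow 2-subgroup of `M24` containing `Q = O₂(C(z))`

`syl`: a Sylow 2-subgroup `S ≤ C(z)` with `Z(S) = ⟨z⟩`; `syl_of_large`: general form.
-/

set_option autoImplicit false

namespace Cfsg.Agent.KFacts.M24Two.Syl

open Cfsg Subgroup Cfsg.Agent.Co2Type.Quad Cfsg.Agent.KFacts.M24Two.CentZ

/-- a Sylow 2-subgroup with centre `⟨z⟩` -/
theorem syl_of_large {K : Type*} [Group K] [Finite K] {Q : Subgroup K} {z : K} (h : Large Q z)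
    (hodd : Odd (centralizer ({z} : Set K)).index) :
    ∃ S : Sylow 2 K, z ∈ S ∧ (∀ x ∈ S, x * z = z * x) ∧
      ∀ y ∈ S, (∀ x ∈ S, x * y = y * x) → y = 1 ∨ y = z := by
  obtain ⟨S, hS⟩ := KFacts.SheetOf.exists_sylow _ hodd
  have hQ2 : IsPGroup 2 Q := by
    intro x
    refine ⟨2, Subtype.ext ?_⟩
    show (x : K) ^ (2 ^ 2) = 1
    have e : (x : K) ^ (2 ^ 2) = (x * x : K) * (x * x) := by
      rw [show (2 : ℕ) ^ 2 = 4 by norm_num, pow_succ, pow_succ, pow_succ, pow_one]; group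
    rw [e]
    rcases h.sq x x.2 with h1 | h1
    · rw [h1, one_mul]
    · rw [h1, h.z_sq]
  have hnorm : (S : Subgroup K) ≤ normalizer (Q : Set K) := by
    intro s hs
    have hsz : s * z = z * s := mem_centralizer_singleton_iff.1 (hS hs)
    have hsz' : s⁻¹ * z = z * s⁻¹ := by
      rw [inv_mul_eq_iff_eq_mul, ← mul_assoc, hsz, mul_assoc, mul_inv_cancel, mul_one]
    rw [mem_normalizer_iff]
    intro r
    constructor
    · exact fun hr => h.conj_mem s hsz r hr
    · intro hr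
      have h1 := h.conj_mem s⁻¹ hsz' _ hr
      have e : s⁻¹ * (s * r * s⁻¹) * s⁻¹⁻¹ = r := by group
      rwa [e] at h1
  have h2 : IsPGroup 2 ((S : Subgroup K) ⊔ Q : Subgroup K) :=
    S.isPGroup'.to_sup_of_normal_right' hQ2 hnorm
  have h3 := S.is_maximal' h2 le_sup_left
  have hQS : Q ≤ S := (le_sup_right : Q ≤ (S : Subgroup K) ⊔ Q).trans h3.le
  refine ⟨S, hQS h.z_mem, fun x hx => mem_centralizer_singleton_iff.1 (hS hx), ?_⟩
  intro y _ hy
  have hyz : y * z = z * y := (hy z (hQS h.z_mem)).symm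
  have hyQ : ∀ x ∈ Q, y * x = x * y := fun x hx => (hy x (hQS hx)).symm
  exact h.cent y (h.self y hyz hyQ) hyQ

/-- `|M24 : C(z)|` is odd -/
theorem odd_index : Odd (centralizer ({z} : Set M24)).index := by
  have h1 := (centralizer ({z} : Set M24)).card_mul_index
  have h2 : Nat.card (centralizer ({z} : Set M24)) = 21504 := card_C
  rw [h2, SporadicA.M24Trans.card_M24] at h1
  have h3 : (centralizer ({z} : Set M24)).index = 11385 := by omega
  rw [h3]
  decide

/-- a Sylow 2-subgroup of `M24` with centre `⟨z⟩` -/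
theorem syl : ∃ S : Sylow 2 M24, z ∈ S ∧ (∀ x ∈ S, x * z = z * x) ∧
    ∀ y ∈ S, (∀ x ∈ S, x * y = y * x) → y = 1 ∨ y = z :=
  syl_of_large QGroup.large odd_index

theorem perf : ⁅centralizer ({z} : Set M24), centralizer ({z} : Set M24)⁆ = centralizer ({z} : Set M24) :=
  C_perfect

end Cfsg.Agent.KFacts.M24Two.Syl
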