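import Cfsg.Agent.SporadicStructure.M24El

/-!
# Elements of `M24` commuting with a list of explicit elements

`pk s` is the packed form of `s : M24`. `mem_of_comm`: an element `s` of `M24` commuting with the explicit
elements `el c` (`c ∈ cs`) and with the transporters `el t` of `tr` is one of the elements `el P`, `P ∈ res`; the
hypotheses are Boolean checks for `decide +kernel`.

`bs` is a list of base points, `tr` has 24 entries `(j, t)`, the `i`-th one with `t (bs j) = i`.
-/

set_option autoImplicit false

namespace Cfsg.Agent.KFacts.M24Two.Tool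

open Cfsg Cfsg.Agent.SporadicA.GolayBase Cfsg.Agent.SporadicA.GolayPerm
open Cfsg.Agent.SporadicStructure.M24El
open scoped Pointwise

/-! ### Packed forms -/

/-- the packed form of an element of `M24` -/
noncomputable def pk (s : M24) : ℕ := packOf (s : Equiv.Perm GolayPt)

theorem papp_pk (s : M24) {i : ℕ} (hi : i < 24) : papp (pk s) i = idx (s • pt i) :=
  papp_packOf _ hi

theorem ok_pk (s : M24) : ok (pk s) = true := by
  refine ok_iff.2 ⟨isPerm_packOf _, ?_⟩
  apply isAut_of_mem_M24 (isPerm_packOf _)
  rw [permOf_packOf]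
  exact s.2

theorem el_pk (s : M24) : el (pk s) = s := by
  apply Subtype.ext
  rw [coe_el (ok_pk s)]
  exact permOf_packOf _

theorem pk_eq (s : M24) : pk s = pack ((List.range 24).map fun i => idx (s • pt i)) := rfl

theorem pcomp_eq (P Q : ℕ) : pcomp P Q = pack ((List.range 24).map fun i => papp P (papp Q i)) := rfl

theorem pack_map_congr {f g : ℕ → ℕ} (n : ℕ) (h : ∀ i < n, f i = g i) :
    pack ((List.range n).map f) = pack ((List.range n).map g) := by
  congr 1
  apply List.map_congr_left
  intro i hi
  exact h i (List.mem_range.1 hi)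

/-- composition of packed forms -/
theorem pcomp_pk (a b : M24) : pcomp (pk a) (pk b) = pk (a * b) := by
  rw [pcomp_eq, pk_eq]
  refine pack_map_congr (f := fun i => papp (pk a) (papp (pk b) i)) (g := fun i => idx ((a * b) • pt i)) 24 ?_
  intro i hi
  rw [papp_pk b hi, papp_pk a (idx_lt _), pt_idx, mul_smul]

/-- `pk` of an explicit element, if the number is reduced -/
theorem pk_el_pcomp {P : ℕ} (hP : ok P = true) (s : M24) :
    pcomp (pk s) P = pk (s * el P) := by
  rw [pcomp_eq, pk_eq]
  refine pack_map_congr (f := fun i => papp (pk s) (papp P i)) (g := fun i => idx ((s * el P) • pt i)) 24 ?_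
  intro i hi
  have h : papp P i < 24 := papp_lt (ok_iff.1 hP).1 hi
  rw [papp_pk s h, mul_smul, el_smul_pt hP, idx_pt hi]

theorem pk_el_pcomp' {P : ℕ} (hP : ok P = true) (s : M24) :
    pcomp P (pk s) = pk (el P * s) := by
  rw [pcomp_eq, pk_eq]
  refine pack_map_congr (f := fun i => papp P (papp (pk s) i)) (g := fun i => idx ((el P * s) • pt i)) 24 ?_
  intro i hi
  rw [papp_pk s hi, mul_smul, idx_el_smul hP]

theorem pk_injective : Function.Injective pk := by
  intro a b h
  rw [← el_pk a, ← el_pk b, h]

/-- two packed permutations with the same element have the same values -/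
theorem el_eq_iff {P Q : ℕ} (hP : ok P = true) (hQ : ok Q = true) :
    el P = el Q ↔ ∀ i < 24, papp P i = papp Q i := by
  constructor
  · intro h i hi
    have := congrArg (fun g : M24 => idx (g • pt i)) h
    simp only [idx_el_smul hP, idx_el_smul hQ, idx_pt hi] at this
    exact this
  · intro h
    apply pk_injective
    rw [pk_eq, pk_eq]
    refine pack_map_congr (f := fun i => idx (el P • pt i)) (g := fun i => idx (el Q • pt i)) 24 ?_
    intro i hi
    rw [idx_el_smul hP, idx_el_smul hQ, idx_pt hi, h i hi]

/-- Boolean form of `el P ≠ el Q` -/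
theorem el_ne {P Q : ℕ} (hP : ok P = true) (hQ : ok Q = true) {i : ℕ} (hi : i < 24)
    (h : Nat.beq (papp P i) (papp Q i) = false) : el P ≠ el Q := by
  intro e
  rw [(el_eq_iff hP hQ).1 e i hi, Nat.beq_refl] at h
  exact absurd h (by decide)

/-! ### Relations by computation -/

theorem mul_eq_of_beq {A B C D : ℕ} (hA : ok A = true) (hB : ok B = true) (hC : ok C = true)
    (hD : ok D = true) (h : Nat.beq (pcomp A B) (pcomp C D) = true) : el A * el B = el C * el D := by
  rw [← el_pcomp hA hB, ← el_pcomp hC hD, Nat.eq_of_beq_eq_true h]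

/-- `s` commutes with words in elements commuting with `s` -/
theorem comm_prodW {gl : List ℕ} (h : ∀ P ∈ gl, ok P = true) {s : M24}
    (hs : ∀ P ∈ gl, s * el P = el P * s) (w : List ℕ) : s * el (prodW gl w) = el (prodW gl w) * s := by
  have h1 : el (prodW gl w) ∈ Subgroup.centralizer ({s} : Set M24) := by
    apply el_prodW_mem h
    intro i _
    rw [Subgroup.mem_centralizer_singleton_iff]
    by_cases hi : i < gl.length
    · rw [List.getD_eq_getElem _ _ hi]
      exact (hs _ (List.getElem_mem hi)).symm
    · rw [List.getD_eq_default _ _ (by omega), el_idP, one_mul, mul_one]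
  exact (Subgroup.mem_centralizer_singleton_iff.1 h1).symm

/-! ### The tool -/

/-- quantification over the lists of length `r` of numbers below 24 -/
def allT : ℕ → (List ℕ → Bool) → Bool
  | 0, p => p []
  | r + 1, p => (List.range 24).all fun a => allT r fun l => p (a :: l)

theorem allT_spec (r : ℕ) : ∀ (p : List ℕ → Bool), allT r p = true → ∀ l : List ℕ, l.length = r →
    (∀ a ∈ l, a < 24) → p l = true := by
  induction r with
  | zero =>
    intro p h l hl _
    rw [List.length_eq_zero_iff.1 hl]
    exact h
  | succ r ih =>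
    intro p h l hl ha
    match l with
    | [] => exact absurd hl (by simp)
    | a :: l =>
      have h1 : allT r (fun l => p (a :: l)) = true :=
        List.all_eq_true.1 h a (List.mem_range.2 (ha a List.mem_cons_self))
      exact ih _ h1 l (by simpa using hl) (fun b hb => ha b (List.mem_cons_of_mem _ hb))

/-- the images determined by the images `x` of the base points -/
def im (tr : List (ℕ × ℕ)) (x : List ℕ) : List ℕ := tr.map fun e => papp e.2 (x.getD e.1 0)

/-- correctness of the transporters -/
def chkTr (bs : List ℕ) (tr : List (ℕ × ℕ)) : Bool :=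
  Nat.beq tr.length 24 && (bs.all fun b => Nat.blt b 24) && (tr.all fun e => ok e.2) &&
  (List.range 24).all fun i => Nat.blt (tr.getD i (0, 0)).1 bs.length &&
    Nat.beq (papp (tr.getD i (0, 0)).2 (bs.getD (tr.getD i (0, 0)).1 0)) i

/-- the test of a candidate -/
def good (cs res : List ℕ) (P : ℕ) : Bool :=
  res.any (fun Q => Nat.beq P Q) || !(cs.all fun c => Nat.beq (pcomp P c) (pcomp c P)) ||
    !(isPerm P && isAut P)

/-- the whole check -/
def chk (bs : List ℕ) (tr : List (ℕ × ℕ)) (cs res : List ℕ) : Bool :=
  chkTr bs tr && cs.all ok && allT bs.length fun x => good cs res (pack (im tr x))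

theorem mem_of_comm {bs cs res : List ℕ} {tr : List (ℕ × ℕ)} (h : chk bs tr cs res = true) (s : M24)
    (ht : ∀ e ∈ tr, s * el e.2 = el e.2 * s) (hc : ∀ c ∈ cs, s * el c = el c * s) :
    ∃ P ∈ res, s = el P := by
  unfold chk at h
  simp only [Bool.and_eq_true] at h
  obtain ⟨⟨h1, h2⟩, h3⟩ := h
  unfold chkTr at h1
  simp only [Bool.and_eq_true, Nat.beq_eq, List.all_eq_true, List.mem_range, Nat.blt_eq] at h1
  obtain ⟨⟨⟨h4, h5⟩, h6⟩, h7⟩ := h1
  have h8 := allT_spec _ _ h3 (bs.map fun b => idx (s • pt b)) (by simp) (by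
    intro a ha
    obtain ⟨b, -, rfl⟩ := List.mem_map.1 ha
    exact idx_lt _)
  have h9 : im tr (bs.map fun b => idx (s • pt b)) = (List.range 24).map fun i => idx (s • pt i) := by
    apply List.ext_getElem
    · simp [im, h4]
    · intro i hi hi'
      have hi24 : i < 24 := by simpa using hi'
      have hit : i < tr.length := by rw [h4]; exact hi24
      obtain ⟨h10, h11⟩ := h7 i hi24
      rw [List.getD_eq_getElem _ _ hit] at h10 h11
      have hmem := List.getElem_mem hit
      have him : (im tr (bs.map fun b => idx (s • pt b)))[i] =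
          papp (tr[i]).2 ((bs.map fun b => idx (s • pt b)).getD (tr[i]).1 0) := by
        unfold im
        exact List.getElem_map _
      rw [him, List.getElem_map, List.getElem_range]
      set e := tr[i]
      have h12 : (bs.map fun b => idx (s • pt b)).getD e.1 0 = idx (s • pt (bs.getD e.1 0)) := by
        rw [List.getD_eq_getElem _ _ (by simpa using h10), List.getElem_map,
          List.getD_eq_getElem _ _ h10]
      have hb : bs.getD e.1 0 < 24 := by
        rw [List.getD_eq_getElem _ _ h10]
        exact h5 _ (List.getElem_mem h10)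
      have hok := h6 e hmem
      rw [h12, ← idx_el_smul hok, ← mul_smul, ← ht e hmem, mul_smul, el_smul_pt hok, idx_pt hb, h11]
  rw [h9, ← pk_eq] at h8
  unfold good at h8
  simp only [Bool.or_eq_true, Bool.not_eq_true'] at h8
  rcases h8 with (h8 | h8) | h8
  · obtain ⟨P, hP, h10⟩ := List.any_eq_true.1 h8
    refine ⟨P, hP, ?_⟩
    rw [← Nat.eq_of_beq_eq_true h10, el_pk]
  · exfalso
    rw [← Bool.not_eq_true, List.all_eq_true] at h8
    apply h8
    intro c hcc
    have hok := List.all_eq_true.1 h2 c hcc
    rw [pk_el_pcomp hok, pk_el_pcomp' hok, hc c hcc, Nat.beq_refl]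
  · exfalso
    have := ok_pk s
    unfold ok at this
    rw [this] at h8
    exact absurd h8 (by decide)

/-- the packed permutations `ts` are the products of the words `ws` in `gl` -/
def chkW (gl : List ℕ) : List ℕ → List (List ℕ) → Bool
  | [], [] => true
  | t :: ts, w :: ws => Nat.beq t (prodW gl w) && chkW gl ts ws
  | _, _ => false

theorem exists_word {gl : List ℕ} : ∀ {ts : List ℕ} {ws : List (List ℕ)}, chkW gl ts ws = true →
    ∀ t ∈ ts, ∃ w ∈ ws, t = prodW gl w
  | [], _, _, t, ht => absurd ht List.not_mem_nil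
  | a :: ts, [], h, _, _ => by simp [chkW] at h
  | a :: ts, w :: ws, h, t, ht => by
    unfold chkW at h
    rw [Bool.and_eq_true] at h
    rcases List.mem_cons.1 ht with rfl | ht
    · exact ⟨w, List.mem_cons_self, Nat.eq_of_beq_eq_true h.1⟩
    · obtain ⟨v, hv, e⟩ := exists_word h.2 t ht
      exact ⟨v, List.mem_cons_of_mem _ hv, e⟩

/-- an element of `M24` commuting with the elements `el P`, `P ∈ gl`, is one of the elements `el P`, `P ∈ res` -/
theorem mem_of_comm_gens {gl bs res : List ℕ} {tr : List (ℕ × ℕ)} {ws : List (List ℕ)}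
    (hgl : ∀ P ∈ gl, ok P = true)
    (h : chk bs tr gl res = true) (hw : chkW gl (tr.map Prod.snd) ws = true) (s : M24)
    (hs : ∀ P ∈ gl, s * el P = el P * s) : ∃ P ∈ res, s = el P := by
  refine mem_of_comm h s ?_ hs
  intro e he
  obtain ⟨w, -, hw⟩ := exists_word hw e.2 (List.mem_map.2 ⟨e, he, rfl⟩)
  rw [hw]
  exact comm_prodW hgl hs w

/-- the elements `el t`, `t ∈ ts`, lie in every subgroup containing the elements of `gl` -/
theorem mem_of_chkW {gl ts : List ℕ} {ws : List (List ℕ)} (hgl : ∀ P ∈ gl, ok P = true)
    (hw : chkW gl ts ws = true) {H : Subgroup M24} (hH : ∀ P ∈ gl, el P ∈ H) {t : ℕ} (ht : t ∈ ts) :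
    el t ∈ H := by
  obtain ⟨w, -, rfl⟩ := exists_word hw t ht
  apply el_prodW_mem hgl
  intro i _
  by_cases hi : i < gl.length
  · rw [List.getD_eq_getElem _ _ hi]
    exact hH _ (List.getElem_mem hi)
  · rw [List.getD_eq_default _ _ (by omega), el_idP]
    exact H.one_mem

end Cfsg.Agent.KFacts.M24Two.Tool
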